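import Mathlib

/-!
# S5211, q = 5, piece M5: a group of order 720 with a subgroup of order 120

`L` has order 720, `z` is a central involution, `a` of order 5 has centralizer `<a, z>`, `S` is a subgroup of order 120 generated
by `a` and `q`, `α` is an automorphism of order dividing 4 which normalizes `S`, `<a>`, `<q>`. Then `L` acts on the six cosets of
`S` as the alternating group, and the two `α`-invariant Sylow subgroups `<a>`, `<q>` of `S` have two companions outside `S`.
-/

set_option autoImplicit false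

namespace Cfsg.Agent.H309.Q5

open Subgroup

/-- powers of an element of order 5 -/
theorem pow_inv5 {G : Type*} [Group G] {x y : G} (hx : x ^ 5 = 1) (hy1 : y ≠ 1) {j : ℕ} (h : x ^ j = y) :
    ∃ i : ℕ, y ^ i = x := by
  have hj : ¬ 5 ∣ j := by
    rintro ⟨m, rfl⟩
    rw [pow_mul, hx, one_pow] at h
    exact hy1 h.symm
  have hc : Nat.Coprime j 5 := ((Nat.Prime.coprime_iff_not_dvd Nat.prime_five).2 hj).symm
  obtain ⟨m, -, hm⟩ := Nat.exists_mul_mod_eq_one_of_coprime hc (by norm_num)
  refine ⟨m, ?_⟩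
  rw [← h, ← pow_mul, pow_eq_pow_mod (j * m) hx, hm, pow_one]

theorem count_fix5 {X : Type*} [Fintype X] [DecidableEq X] (f : Equiv.Perm X) (hf : f ^ 5 = 1) (u v : X) (huv : u ≠ v)
    (hu : f u = u) (hv : f v = v) (h : ∀ x, f x = x → x = u ∨ x = v) : Fintype.card X % 5 = 2 := by
  haveI : Fact (Nat.Prime 5) := ⟨Nat.prime_five⟩
  have h1 := Equiv.Perm.card_compl_support_modEq (σ := f) (p := 5) (n := 1) (by simpa using hf)
  have h2 : f.supportᶜ = {u, v} := by
    ext x
    simp only [Finset.mem_compl, Equiv.Perm.mem_support, not_not, Finset.mem_insert, Finset.mem_singleton]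
    constructor
    · exact h x
    · rintro (rfl | rfl)
      · exact hu
      · exact hv
  rw [h2, Finset.card_pair huv] at h1
  have := h1.symm
  unfold Nat.ModEq at this
  omega

section

variable {L : Type*} [Group L] [Finite L]

theorem core (hL : Nat.card L = 720) (S : Subgroup L) (hS : Nat.card S = 120)
    (z : L) (hzS : z ∈ S) (hz1 : z ≠ 1) (hz2 : z ^ 2 = 1) (hzc : ∀ x, z * x = x * z)
    (a q : L) (ha5 : a ^ 5 = 1) (ha : a ≠ 1) (hq5 : q ^ 5 = 1) (haS : a ∈ S) (hqS : q ∈ S)
    (hSg : S ≤ closure {a, q})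
    (hC : ∀ g, g * a = a * g → ∃ k : ℕ, g = a ^ k ∨ g = z * a ^ k)
    (hcj : ∀ g : L, g ^ 5 = 1 → g ≠ 1 → ∃ x, ∃ k : ℕ, x * a ^ k * x⁻¹ = g)
    (hgen : ∀ H : Subgroup L, (∀ g : L, g ^ 5 = 1 → g ∈ H) → H = ⊤) :
    (MulAction.toPermHom L (L ⧸ S)).range.Normal ∧ Nat.card (L ⧸ S) = 6 ∧
      ∀ x, MulAction.toPermHom L (L ⧸ S) x = 1 → x = 1 ∨ x = z := by
  classical
  have hidx : S.index = 6 := by
    have := S.card_mul_index; rw [hS, hL] at this; omega
  have hcard : Nat.card (L ⧸ S) = 6 := hidx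
  haveI : Finite (L ⧸ S) := Nat.finite_of_card_ne_zero (by rw [hcard]; norm_num)
  set φ := MulAction.toPermHom L (L ⧸ S) with hφ
  set K := φ.ker with hK
  have hKn : K.Normal := MonoidHom.normal_ker φ
  have hKS : K ≤ S := by rw [hK, hφ, ← normalCore_eq_ker]; exact S.normalCore_le
  have hzK : z ∈ K := by
    rw [hK, hφ, ← normalCore_eq_ker]
    intro b
    have : b * z * b⁻¹ = z := by rw [← hzc b, mul_assoc, mul_inv_cancel, mul_one]
    rw [this]; exact hzS
  -- 5 does not divide the order of the kernel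
  have h5 : ∀ g : L, g ^ 5 = 1 → g ∈ K → g = 1 := by
    intro g hg5 hgK
    by_contra hg1
    obtain ⟨x, k, hx⟩ := hcj g hg5 hg1
    have hak : a ^ k ∈ K := by
      have := hKn.conj_mem g hgK x⁻¹
      rwa [← hx, show x⁻¹ * (x * a ^ k * x⁻¹) * x⁻¹⁻¹ = a ^ k by group] at this
    have hak1 : a ^ k ≠ 1 := by
      intro h
      rw [h, mul_one, mul_inv_cancel] at hx
      exact hg1 hx.symm
    obtain ⟨i, hi⟩ := pow_inv5 ha5 hak1 rfl
    have haK : a ∈ K := by rw [← hi]; exact pow_mem hak i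
    have hT : K = ⊤ := by
      apply hgen
      intro y hy
      by_cases hy1 : y = 1
      · rw [hy1]; exact one_mem _
      · obtain ⟨x, k, hx⟩ := hcj y hy hy1
        rw [← hx]
        exact hKn.conj_mem _ (pow_mem haK k) x
    have : (⊤ : Subgroup L) ≤ S := hT ▸ hKS
    have h2 : S = ⊤ := top_le_iff.1 this
    rw [h2, card_top, hL] at hS
    omega
  have hnd : ¬ 5 ∣ Nat.card K := by
    intro h
    haveI : Fact (Nat.Prime 5) := ⟨Nat.prime_five⟩
    obtain ⟨g, hg⟩ := exists_prime_orderOf_dvd_card' 5 h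
    have h1 : (g : L) = 1 := by
      apply h5 g _ g.2
      rw [← SubgroupClass.coe_pow, ← hg, pow_orderOf_eq_one]; rfl
    have : g = 1 := Subtype.ext h1
    rw [this, orderOf_one] at hg
    omega
  have hdvd : Nat.card K ∣ 24 := by
    have h1 : Nat.card K ∣ 5 * 24 := by
      have := Subgroup.card_dvd_of_le hKS
      rwa [hS] at this
    exact Nat.Coprime.dvd_of_dvd_mul_left ((Nat.Prime.coprime_iff_not_dvd Nat.prime_five).2 hnd).symm h1
  -- the congruence
  haveI : Fintype K := Fintype.ofFinite K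
  have hmod : Nat.card K % 5 = 2 := by
    have hconj : ∀ n : ℕ, ∀ x : K, (((MulAut.conjNormal a : MulAut K).toEquiv ^ n : Equiv.Perm K) x : L) =
        a ^ n * x * (a ^ n)⁻¹ := by
      intro n
      induction n with
      | zero => intro x; simp
      | succ n ih =>
        intro x
        rw [pow_succ', Equiv.Perm.mul_apply]
        change ((MulAut.conjNormal a : MulAut K) _ : L) = _
        rw [MulAut.conjNormal_apply, ih, pow_succ']
        group
    rw [Nat.card_eq_fintype_card]
    refine count_fix5 ((MulAut.conjNormal a : MulAut K).toEquiv) ?_ 1 ⟨z, hzK⟩ ?_ ?_ ?_ ?_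
    · ext x
      rw [hconj, ha5]; simp
    · intro h
      exact hz1 (congrArg Subtype.val h).symm
    · exact map_one (MulAut.conjNormal a : MulAut K)
    · apply Subtype.ext
      change ((MulAut.conjNormal a : MulAut K) _ : L) = _
      rw [MulAut.conjNormal_apply]
      change a * z * a⁻¹ = z
      rw [← hzc a, mul_assoc, mul_inv_cancel, mul_one]
    · intro x hx
      have h1 := congrArg Subtype.val hx
      change ((MulAut.conjNormal a : MulAut K) _ : L) = _ at h1
      rw [MulAut.conjNormal_apply, mul_inv_eq_iff_eq_mul] at h1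
      obtain ⟨k, hk | hk⟩ := hC x h1.symm
      · left
        apply Subtype.ext
        apply h5 _ _ x.2
        rw [hk, ← pow_mul, mul_comm, pow_mul, ha5, one_pow]
      · right
        apply Subtype.ext
        change (x : L) = z
        have h2 : a ^ k ∈ K := by
          have h3 : (x : L) ∈ K := x.2
          rw [hk] at h3
          exact (K.mul_mem_cancel_left hzK).1 h3
        have h4 : a ^ k = 1 := by
          apply h5 _ _ h2
          rw [← pow_mul, mul_comm, pow_mul, ha5, one_pow]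
        rw [hk, h4, mul_one]
  -- the images
  have hmap : Nat.card K * Nat.card (S.map φ) = 120 := by
    have h1 := relIndex_mul_relIndex (⊥ : Subgroup L) K S bot_le hKS
    rw [relIndex_bot_left, relIndex_bot_left, hS, hK, relIndex_ker] at h1
    exact h1
  have hran : Nat.card K * Nat.card φ.range = 720 := by
    have h1 := K.card_mul_index
    rw [hL, hK, index_ker] at h1
    exact h1
  have hK2 : Nat.card K = 2 := by
    have hle : Nat.card K ≤ 24 := Nat.le_of_dvd (by norm_num) hdvd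
    have h212 : Nat.card K = 2 ∨ Nat.card K = 12 := by
      generalize Nat.card K = m at *
      interval_cases m <;> omega
    rcases h212 with h | h
    · exact h
    exfalso
    rw [h] at hmap
    have hT : Nat.card (S.map φ) = 10 := by omega
    have hφa : φ a ≠ 1 := fun hh => ha (h5 a ha5 hh)
    have hZ : Nat.card (zpowers (φ a)) = 5 := by
      haveI : Fact (Nat.Prime 5) := ⟨Nat.prime_five⟩
      rw [Nat.card_zpowers]
      exact orderOf_eq_prime (by rw [← map_pow, ha5, map_one]) hφa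
    have hZT : zpowers (φ a) ≤ S.map φ := by
      rw [zpowers_le]; exact mem_map_of_mem _ haS
    have hrel : (zpowers (φ a)).relIndex (S.map φ) = 2 := by
      have h1 := relIndex_mul_relIndex (⊥ : Subgroup _) (zpowers (φ a)) (S.map φ) bot_le hZT
      rw [relIndex_bot_left, relIndex_bot_left, hZ, hT] at h1
      omega
    have hq : φ q ∈ zpowers (φ a) := by
      have h1 : ((zpowers (φ a)).subgroupOf (S.map φ)).index = 2 := hrel
      have h2 := sq_mem_of_index_two h1 ⟨φ (q ^ 3), mem_map_of_mem _ (pow_mem hqS 3)⟩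
      rw [mem_subgroupOf] at h2
      change (φ (q ^ 3)) ^ 2 ∈ _ at h2
      rw [← map_pow, ← pow_mul, show 3 * 2 = 5 + 1 from rfl, pow_succ, hq5, one_mul] at h2
      exact h2
    have hle : S.map φ ≤ zpowers (φ a) := by
      rw [map_le_iff_le_comap]
      refine hSg.trans ?_
      rw [closure_le]
      rintro y (rfl | hy)
      · exact mem_zpowers _
      · rw [Set.mem_singleton_iff] at hy; subst hy; exact hq
    have := Nat.card_le_card_of_injective _ (inclusion_injective hle)
    rw [hZ, hT] at this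
    omega
  rw [hK2] at hran
  have hperm : Nat.card (Equiv.Perm (L ⧸ S)) = 720 := by
    rw [Nat.card_perm, hcard]; rfl
  have hri : φ.range.index = 2 := by
    have := φ.range.card_mul_index
    rw [hperm] at this
    have h360 : Nat.card φ.range = 360 := by omega
    rw [h360] at this; omega
  refine ⟨normal_of_index_eq_two hri, hcard, ?_⟩
  intro x hx
  have hxK : x ∈ K := hx
  by_contra hcon
  push Not at hcon
  have h3 : ({⟨1, one_mem _⟩, ⟨z, hzK⟩, ⟨x, hxK⟩} : Finset K).card = 3 := by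
    rw [Finset.card_eq_three]
    refine ⟨_, _, _, ?_, ?_, ?_, rfl⟩
    · intro h; exact hz1 (congrArg Subtype.val h).symm
    · intro h; exact hcon.1 (congrArg Subtype.val h).symm
    · intro h; exact hcon.2 (congrArg Subtype.val h).symm
  have h4 := Finset.card_le_univ ({⟨1, one_mem _⟩, ⟨z, hzK⟩, ⟨x, hxK⟩} : Finset K)
  rw [h3, ← Nat.card_eq_fintype_card, hK2] at h4
  omega

/-- The two `α`-invariant subgroups outside `S`. -/
theorem companions (S : Subgroup L) (z : L) (hz1 : z ≠ 1) (hz2 : z ^ 2 = 1) (hzc : ∀ x, z * x = x * z)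
    (hn : (MulAction.toPermHom L (L ⧸ S)).range.Normal) (h6 : Nat.card (L ⧸ S) = 6)
    (hker : ∀ x, MulAction.toPermHom L (L ⧸ S) x = 1 → x = 1 ∨ x = z)
    (α : MulAut L) (hα : ∀ x, α (α (α (α x))) = x) (hαS : ∀ x ∈ S, α x ∈ S) :
    ∃ τ : Equiv.Perm (L ⧸ S), ∀ g ∈ S, g ^ 5 = 1 → g ≠ 1 → ∀ k : ℕ, α g = g ^ k →
      ∃ x : L, x ^ 5 = 1 ∧ x ∉ S ∧ α x = x ^ k ∧
        MulAction.toPermHom L (L ⧸ S) x = τ * MulAction.toPermHom L (L ⧸ S) g * τ⁻¹ := by
  classical
  haveI : Finite (L ⧸ S) := Nat.finite_of_card_ne_zero (by rw [h6]; norm_num)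
  haveI : Fintype (L ⧸ S) := Fintype.ofFinite _
  have h6' : Fintype.card (L ⧸ S) = 6 := by rw [← Nat.card_eq_fintype_card, h6]
  set φ := MulAction.toPermHom L (L ⧸ S) with hφ
  have hφm : ∀ g x : L, φ g (x : L ⧸ S) = ((g * x : L) : L ⧸ S) := fun g x => rfl
  have hαS' : ∀ x, α x ∈ S ↔ x ∈ S := by
    intro x
    refine ⟨fun h => ?_, hαS x⟩
    rw [← hα x]
    exact hαS _ (hαS _ (hαS _ h))
  let σ : Equiv.Perm (L ⧸ S) := Quotient.congr α.toEquiv (by
    intro x y
    rw [QuotientGroup.leftRel_apply, QuotientGroup.leftRel_apply]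
    change _ ↔ (α x)⁻¹ * α y ∈ S
    rw [← map_inv, ← map_mul, hαS'])
  have hσm : ∀ x : L, σ (x : L ⧸ S) = ((α x : L) : L ⧸ S) := fun x => rfl
  have hσ4 : σ ^ 2 ^ 2 = 1 := by
    ext x
    induction x using QuotientGroup.induction_on with
    | H x =>
      change σ (σ (σ (σ (x : L ⧸ S)))) = (x : L ⧸ S)
      rw [hσm, hσm, hσm, hσm, hα]
  have hσφ : ∀ g : L, σ * φ g = φ (α g) * σ := by
    intro g
    ext x
    induction x using QuotientGroup.induction_on with
    | H x =>
      rw [Equiv.Perm.mul_apply, Equiv.Perm.mul_apply, hφm, hσm, hσm, hφm, map_mul]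
  have hσφ' : ∀ g : L, φ (α g) = σ * φ g * σ⁻¹ := by
    intro g; rw [hσφ, mul_assoc, mul_inv_cancel, mul_one]
  have hσi : σ ((1 : L) : L ⧸ S) = ((1 : L) : L ⧸ S) := by rw [hσm, map_one]
  obtain ⟨o, hσo, hoi⟩ := Equiv.Perm.exists_fixed_point_of_prime' (p := 2) (n := 2) (by rw [h6']; norm_num) hσ4 hσi
  set i : L ⧸ S := ((1 : L) : L ⧸ S) with hi
  let τ : Equiv.Perm (L ⧸ S) := Equiv.swap o i
  have hστ : σ * τ = τ * σ := by
    have := Equiv.mul_swap_eq_swap_mul σ o i
    rw [hσo, hσi] at this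
    exact this
  have hz5 : z ^ 5 = z := by
    rw [show 5 = 2 * 2 + 1 from rfl, pow_succ, pow_mul, hz2, one_pow, one_mul]
  have hzpow : ∀ n : ℕ, ∀ x : L, (z * x) ^ n = z ^ n * x ^ n := fun n x => (Commute.mul_pow (hzc x) n)
  refine ⟨τ, ?_⟩
  intro g hgS hg5 hg1 k hk
  obtain ⟨y, hy⟩ : τ * φ g * τ⁻¹ ∈ φ.range := hn.conj_mem _ ⟨g, rfl⟩ τ
  have hy5 : φ (y ^ 5) = 1 := by
    rw [map_pow, hy, conj_pow, ← map_pow, hg5, map_one, mul_one, mul_inv_cancel]
  -- correct `y` by a power
  have hyz : (y ^ 5) ^ 2 = 1 := by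
    rcases hker _ hy5 with h | h
    · rw [h, one_pow]
    · rw [h, hz2]
  have hx5 : (y ^ 6) ^ 5 = 1 := by
    rw [← pow_mul, show 6 * 5 = 5 * 2 * 3 from rfl, pow_mul, pow_mul, hyz, one_pow]
  have hφx : φ (y ^ 6) = τ * φ g * τ⁻¹ := by
    rw [pow_succ, map_mul, hy5, one_mul, hy]
  refine ⟨y ^ 6, hx5, ?_, ?_, hφx⟩
  · intro hxS
    have h1 : φ (y ^ 6) i = i := by
      rw [hi, hφm, mul_one]
      exact (QuotientGroup.eq.2 (by simpa using hxS)).symm
    rw [hφx] at h1
    have h2 : φ g o = o := by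
      have h3 : τ⁻¹ i = o := by
        rw [Equiv.Perm.inv_eq_iff_eq]; exact (Equiv.swap_apply_left o i).symm
      rw [Equiv.Perm.mul_apply, Equiv.Perm.mul_apply, h3] at h1
      exact τ.injective (h1.trans (Equiv.swap_apply_left o i).symm)
    have h3 : φ g i = i := by
      rw [hi, hφm, mul_one]
      exact (QuotientGroup.eq.2 (by simpa using hgS)).symm
    haveI : Fact (Nat.Prime 5) := ⟨Nat.prime_five⟩
    have h4 := Equiv.Perm.card_compl_support_modEq (σ := φ g) (p := 5) (n := 1)
      (by rw [pow_one, ← map_pow, hg5, map_one])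
    rw [h6'] at h4
    have h5 : 2 ≤ (φ g).supportᶜ.card := by
      rw [← Finset.card_pair hoi]
      apply Finset.card_le_card
      intro t ht
      rw [Finset.mem_insert, Finset.mem_singleton] at ht
      rw [Finset.mem_compl, Equiv.Perm.mem_support, not_not]
      rcases ht with rfl | rfl
      · exact h2
      · exact h3
    have h7 := Finset.card_add_card_compl (φ g).support
    rw [h6'] at h7
    have h8 : (φ g).support.card = 0 := by
      unfold Nat.ModEq at h4; omega
    rw [Finset.card_eq_zero, Equiv.Perm.support_eq_empty_iff] at h8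
    rcases hker _ h8 with h | h
    · exact hg1 h
    · rw [h, hz5] at hg5; exact hz1 hg5
  · have h1 : φ (α (y ^ 6) * ((y ^ 6) ^ k)⁻¹) = 1 := by
      rw [map_mul, map_inv, mul_inv_eq_one, hσφ', hφx, map_pow, hφx, conj_pow, ← map_pow, ← hk, hσφ']
      calc σ * (τ * φ g * τ⁻¹) * σ⁻¹ = (σ * τ) * φ g * (σ * τ)⁻¹ := by group
        _ = (τ * σ) * φ g * (τ * σ)⁻¹ := by rw [hστ]
        _ = τ * (σ * φ g * σ⁻¹) * τ⁻¹ := by group
    rcases hker _ h1 with h | h
    · exact mul_inv_eq_one.1 h
    · exfalso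
      have h2 : α (y ^ 6) = z * (y ^ 6) ^ k := mul_inv_eq_iff_eq_mul.1 h
      have h3 : (α (y ^ 6)) ^ 5 = (z * (y ^ 6) ^ k) ^ 5 := by rw [h2]
      rw [← map_pow, hx5, map_one, hzpow, hz5, ← pow_mul, mul_comm k 5, pow_mul, hx5, one_pow, mul_one] at h3
      exact hz1 h3.symm

end

end Cfsg.Agent.H309.Q5
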