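import Cfsg.Agent.H309.Q5.Lists
import Cfsg.Agent.H309.Q5.Core

/-!
# S5211, q = 5, piece M5: the case of order 720
-/

set_option autoImplicit false

namespace Cfsg.Agent.H309.Q5

open Subgroup Cfsg.Agent.H24.Q5

/-- (M2) in its strong form: a `gh2`-invariant subgroup of order 5 of `L` is `<gA>` or contains one of the five elements -/
def StM2s : Prop := ∀ L : Subgroup M5ˣ, Hyp L → ∀ x ∈ L, x ^ 5 = 1 → x ≠ 1 → (∃ k : ℕ, gh2 * x * gh2⁻¹ = x ^ k) →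
  ∃ j : ℕ, x = gA ^ j ∨ x ^ j = gS ∨ x ^ j = gR ∨ x ^ j = gC ∨ x ^ j = gB ∨ x ^ j = gP

theorem gA5 : gA ^ 5 = 1 := Units.ext (by rw [Units.val_pow_eq_pow_val]; exact mA5)
theorem gS5 : gS ^ 5 = 1 := Units.ext (by rw [Units.val_pow_eq_pow_val]; exact mS5)
theorem gP5 : gP ^ 5 = 1 := Units.ext (by rw [Units.val_pow_eq_pow_val]; exact mP5)
theorem gh24 : gh2 ^ 4 = 1 := Units.ext (by rw [Units.val_pow_eq_pow_val]; exact mh24)
theorem gA_ne : gA ≠ 1 := fun h => absurd (congrArg Units.val h) (by decide +kernel)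
theorem gS_ne : gS ≠ 1 := fun h => absurd (congrArg Units.val h) (by decide +kernel)
theorem gP_ne : gP ≠ 1 := fun h => absurd (congrArg Units.val h) (by decide +kernel)

theorem gh2_gA : gh2 * gA * gh2⁻¹ = gA ^ 3 := by
  rw [mul_inv_eq_iff_eq_mul]
  apply Units.ext
  rw [Units.val_mul, Units.val_mul, Units.val_pow_eq_pow_val]
  decide +kernel

theorem gh2_gS : gh2 * gS * gh2⁻¹ = gS ^ 2 := by
  rw [mul_inv_eq_iff_eq_mul]
  apply Units.ext
  rw [Units.val_mul, Units.val_mul, Units.val_pow_eq_pow_val]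
  decide +kernel

theorem gh2_gP : gh2 * gP * gh2⁻¹ = gP ^ 2 := by
  rw [mul_inv_eq_iff_eq_mul]
  apply Units.ext
  rw [Units.val_mul, Units.val_mul, Units.val_pow_eq_pow_val]
  decide +kernel

theorem gA_pow_ne_gS (j : ℕ) : gA ^ j ≠ gS := by
  rw [pow_eq_pow_mod j gA5]
  have h : ∀ i < 5, (gA : M5) ^ i ≠ (gS : M5) := by decide +kernel
  intro hh
  apply h (j % 5) (Nat.mod_lt _ (by norm_num))
  rw [← hh, Units.val_pow_eq_pow_val]

theorem gA_pow_ne_gP (j : ℕ) : gA ^ j ≠ gP := by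
  rw [pow_eq_pow_mod j gA5]
  have h : ∀ i < 5, (gA : M5) ^ i ≠ (gP : M5) := by decide +kernel
  intro hh
  apply h (j % 5) (Nat.mod_lt _ (by norm_num))
  rw [← hh, Units.val_pow_eq_pow_val]

theorem neg_one_ne : (-1 : M5ˣ) ≠ 1 := fun h => absurd (congrArg Units.val h) (by decide +kernel)

theorem conj3 {G : Type*} [Group G] (h x : G) : h * (h * (h * x * h⁻¹) * h⁻¹) * h⁻¹ = h ^ 3 * x * (h ^ 3)⁻¹ := by
  simp only [pow_succ, pow_zero, one_mul, mul_inv_rev, mul_assoc]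

theorem conj4 {G : Type*} [Group G] (h x : G) :
    h * (h * (h * (h * x * h⁻¹) * h⁻¹) * h⁻¹) * h⁻¹ = h ^ 4 * x * (h ^ 4)⁻¹ := by
  simp only [pow_succ, pow_zero, one_mul, mul_inv_rev, mul_assoc]

theorem inv5 {G : Type*} [Group G] {z : G} (h : z ^ 2 = 1) : z ^ 5 = z := by
  rw [show 5 = 2 * 2 + 1 from rfl, pow_succ, pow_mul, h, one_pow, one_mul]

/-- conjugation by `gh2` on `L` -/
def alph (L : Subgroup M5ˣ) (h2 : ∀ g ∈ L, gh2 * g * gh2⁻¹ ∈ L) : MulAut L where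
  toFun x := ⟨gh2 * x * gh2⁻¹, h2 x x.2⟩
  invFun x := ⟨gh2⁻¹ * x * gh2, by
    have h := h2 _ (h2 _ (h2 x x.2))
    have e3 : gh2 ^ 3 = gh2⁻¹ := by
      rw [eq_inv_iff_mul_eq_one, ← pow_succ]; exact gh24
    rw [conj3, e3, inv_inv] at h
    exact h⟩
  left_inv x := Subtype.ext (by simp only []; group)
  right_inv x := Subtype.ext (by simp only []; group)
  map_mul' x y := Subtype.ext (by
    change gh2 * ((x : M5ˣ) * y) * gh2⁻¹ = (gh2 * x * gh2⁻¹) * (gh2 * y * gh2⁻¹)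
    group)

/-- the core for the explicit groups: `q` is `gS` or `gP` -/
theorem two_more (h1 : StM1) (L : Subgroup M5ˣ) (hL : Hyp L) (hcard : Nat.card L = 720) (q : M5ˣ) (hq5 : q ^ 5 = 1)
    (hq1 : q ≠ 1) (hqL : q ∈ L) (hq2 : gh2 * q * gh2⁻¹ = q ^ 2) (hAq : ∀ j : ℕ, gA ^ j ≠ q)
    (hc : Nat.card (closure {gA, q} : Subgroup M5ˣ) = 120) (hm : -1 ∈ (closure {gA, q} : Subgroup M5ˣ)) :
    ∃ x ∈ L, ∃ y ∈ L, x ^ 5 = 1 ∧ y ^ 5 = 1 ∧ x ∉ (closure {gA, q} : Subgroup M5ˣ) ∧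
      y ∉ (closure {gA, q} : Subgroup M5ˣ) ∧ gh2 * x * gh2⁻¹ = x ^ 3 ∧ gh2 * y * gh2⁻¹ = y ^ 2 ∧
      ∀ j : ℕ, x ^ j ≠ y := by
  obtain ⟨hcj, -, hC, -, -⟩ := h1 L hL
  set S0 : Subgroup M5ˣ := closure {gA, q} with hS0
  have hSL : S0 ≤ L := by
    rw [hS0, closure_le]
    rintro y (rfl | hy)
    · exact hL.memA
    · rw [Set.mem_singleton_iff] at hy; subst hy; exact hqL
  have hAS : gA ∈ S0 := subset_closure (Set.mem_insert _ _)
  have hqS : q ∈ S0 := subset_closure (Set.mem_insert_of_mem _ rfl)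
  let S : Subgroup L := S0.subgroupOf L
  have hScard : Nat.card S = 120 := by
    rw [← hc]; exact Nat.card_congr (subgroupOfEquivOfLe hSL).toEquiv
  let z : L := ⟨-1, hSL hm⟩
  let a : L := ⟨gA, hL.memA⟩
  let q' : L := ⟨q, hqL⟩
  have hz1 : z ≠ 1 := fun h => neg_one_ne (congrArg Subtype.val h)
  have hz2 : z ^ 2 = 1 := Subtype.ext (by change (-1 : M5ˣ) ^ 2 = 1; simp)
  have hzc : ∀ x : L, z * x = x * z := fun x => Subtype.ext (by
    change (-1 : M5ˣ) * x = x * (-1); rw [neg_mul, one_mul, mul_neg, mul_one])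
  have ha5 : a ^ 5 = 1 := Subtype.ext gA5
  have ha1 : a ≠ 1 := fun h => gA_ne (congrArg Subtype.val h)
  have hq5' : q' ^ 5 = 1 := Subtype.ext hq5
  have hq1' : q' ≠ 1 := fun h => hq1 (congrArg Subtype.val h)
  have haS : a ∈ S := mem_subgroupOf.2 hAS
  have hqS' : q' ∈ S := mem_subgroupOf.2 hqS
  have hSg : S ≤ Subgroup.closure {a, q'} := by
    intro x hx
    have hx' : (x : M5ˣ) ∈ S0 := mem_subgroupOf.1 hx
    have hmap : (Subgroup.closure {a, q'}).map L.subtype = S0 := by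
      rw [MonoidHom.map_closure, hS0]
      congr 1
      rw [Set.image_pair]; rfl
    rw [← hmap] at hx'
    obtain ⟨y, hy, hyx⟩ := hx'
    have : y = x := Subtype.ext hyx
    rwa [← this]
  have hC' : ∀ g : L, g * a = a * g → ∃ k : ℕ, g = a ^ k ∨ g = z * a ^ k := by
    intro g hg
    obtain ⟨k, hk | hk⟩ := hC g g.2 (congrArg Subtype.val hg)
    · exact ⟨k, Or.inl (Subtype.ext hk)⟩
    · refine ⟨k, Or.inr (Subtype.ext ?_)⟩
      change (g : M5ˣ) = (-1) * gA ^ k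
      rw [hk, neg_mul, one_mul]
  have hcj' : ∀ g : L, g ^ 5 = 1 → g ≠ 1 → ∃ x, ∃ k : ℕ, x * a ^ k * x⁻¹ = g := by
    intro g hg hg1
    obtain ⟨x, hx, k, hk⟩ := hcj g g.2 (congrArg Subtype.val hg) (fun h => hg1 (Subtype.ext h))
    exact ⟨⟨x, hx⟩, k, Subtype.ext hk⟩
  have hgen : ∀ H : Subgroup L, (∀ g : L, g ^ 5 = 1 → g ∈ H) → H = ⊤ := by
    intro H hH
    rw [eq_top_iff]
    intro x _
    have h1 : L ≤ H.map L.subtype := by
      refine hL.gen.trans ?_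
      rw [closure_le]
      rintro g ⟨hg, hg5⟩
      exact ⟨⟨g, hg⟩, hH _ (Subtype.ext hg5), rfl⟩
    obtain ⟨y, hy, hyx⟩ := h1 x.2
    have : y = x := Subtype.ext hyx
    rwa [← this]
  obtain ⟨hn, h6, hker⟩ := core hcard S hScard z (mem_subgroupOf.2 hm) hz1 hz2 hzc a q' ha5 ha1 hq5' haS hqS' hSg hC' hcj' hgen
  let α := alph L hL.h2
  have hα : ∀ x, α (α (α (α x))) = x := by
    intro x
    apply Subtype.ext
    change gh2 * (gh2 * (gh2 * (gh2 * (x : M5ˣ) * gh2⁻¹) * gh2⁻¹) * gh2⁻¹) * gh2⁻¹ = x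
    rw [conj4, gh24, one_mul, inv_one, mul_one]
  have hαS : ∀ x ∈ S, α x ∈ S := by
    intro x hx
    rw [mem_subgroupOf] at hx ⊢
    change gh2 * (x : M5ˣ) * gh2⁻¹ ∈ S0
    have h1 : S0 ≤ S0.comap (MulAut.conj gh2).toMonoidHom := by
      conv_lhs => rw [hS0]
      rw [closure_le]
      rintro y (rfl | hy)
      · change gh2 * gA * gh2⁻¹ ∈ S0
        rw [gh2_gA]; exact pow_mem hAS 3
      · rw [Set.mem_singleton_iff] at hy; subst hy
        change gh2 * y * gh2⁻¹ ∈ S0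
        rw [hq2]; exact pow_mem hqS 2
    exact h1 hx
  obtain ⟨τ, hτ⟩ := companions S z hz1 hz2 hzc hn h6 hker α hα hαS
  obtain ⟨x, hx5, hxS, hxα, hxφ⟩ := hτ a haS ha5 ha1 3 (Subtype.ext gh2_gA)
  obtain ⟨y, hy5, hyS, hyα, hyφ⟩ := hτ q' hqS' hq5' hq1' 2 (Subtype.ext hq2)
  refine ⟨x, x.2, y, y.2, congrArg Subtype.val hx5, congrArg Subtype.val hy5, fun h => hxS (mem_subgroupOf.2 h),
    fun h => hyS (mem_subgroupOf.2 h), congrArg Subtype.val hxα, congrArg Subtype.val hyα, ?_⟩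
  intro j hj
  have hj' : x ^ j = y := Subtype.ext hj
  rw [← hj', map_pow, hxφ, conj_pow] at hyφ
  have h2 : MulAction.toPermHom L (L ⧸ S) (a ^ j * q'⁻¹) = 1 := by
    rw [map_mul, map_inv, map_pow, mul_inv_eq_one]
    exact mul_left_cancel (mul_right_cancel hyφ)
  rcases hker _ h2 with h | h
  · exact hAq j (congrArg Subtype.val (mul_inv_eq_one.1 h))
  · have h3 : a ^ j = z * q' := mul_inv_eq_iff_eq_mul.1 h
    have h4 : (a ^ j) ^ 5 = (z * q') ^ 5 := by rw [h3]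
    rw [← pow_mul, mul_comm j 5, pow_mul, ha5, one_pow, Commute.mul_pow (hzc q'), hq5', mul_one,
      inv5 hz2] at h4
    exact hz1 h4.symm

/-- (M5) -/
theorem stM5_of (h1 : StM1) (h2 : StM2s) (h2' : StM2) (h6 : StM6) : StM5 := by
  intro L hL hcard
  obtain ⟨⟨cS, cR, cC, cB, cP⟩, ⟨mS, mR, mC, mB, mP⟩, -⟩ := h6
  by_contra hCL
  haveI : Finite L := Nat.finite_of_card_ne_zero (by rw [hcard]; norm_num)
  have hle : ∀ g ∈ L, (closure {gA, g} : Subgroup M5ˣ) ≤ L := by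
    intro g hg
    rw [closure_le]
    rintro y (rfl | hy)
    · exact hL.memA
    · rw [Set.mem_singleton_iff] at hy; subst hy; exact hg
  have hR : gR ∉ L := by
    intro h
    have h3 : Nat.card LR = 160 := le_antisymm card_LR_le cR
    have h4 := Subgroup.card_dvd_of_le (hle gR h)
    change Nat.card LR ∣ _ at h4
    rw [h3, hcard] at h4
    omega
  have hB : gB ∉ L := by
    intro h
    have h4 := Subgroup.card_dvd_of_le (hle gB h)
    change Nat.card LB ∣ _ at h4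
    rw [hcard] at h4
    have := Nat.le_of_dvd (by norm_num) h4
    omega
  -- a gh2-invariant subgroup contains `gS` or `gP`
  have key : ∀ x ∈ L, x ^ 5 = 1 → (∀ j : ℕ, x ≠ gA ^ j) → (∃ k : ℕ, gh2 * x * gh2⁻¹ = x ^ k) →
      ∃ j : ℕ, x ^ j = gS ∨ x ^ j = gP := by
    intro x hx hx5 hxA hk
    obtain ⟨j, h | h | h | h | h | h⟩ := h2 L hL x hx hx5 (fun h => hxA 0 (by rw [h, pow_zero])) hk
    · exact absurd h (hxA j)
    · exact ⟨j, Or.inl h⟩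
    · exact absurd (h ▸ pow_mem hx j) hR
    · exact absurd (h ▸ pow_mem hx j) hCL
    · exact absurd (h ▸ pow_mem hx j) hB
    · exact ⟨j, Or.inr h⟩
  have main : ∀ q q' : M5ˣ, q ^ 5 = 1 → q' ^ 5 = 1 → q ≠ 1 → q' ≠ 1 → q ∈ L → gh2 * q * gh2⁻¹ = q ^ 2 → (∀ j : ℕ, gA ^ j ≠ q) →
      Nat.card (closure {gA, q} : Subgroup M5ˣ) = 120 → -1 ∈ (closure {gA, q} : Subgroup M5ˣ) →
      (∀ x ∈ L, x ^ 5 = 1 → (∀ j : ℕ, x ≠ gA ^ j) → (∃ k : ℕ, gh2 * x * gh2⁻¹ = x ^ k) →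
      ∃ j : ℕ, x ^ j = q ∨ x ^ j = q') → False := by
    intro q q' hq5 hq5' hq1 hq1' hqL hq2 hAq hc hm hk
    obtain ⟨x, hxL, y, hyL, hx5, hy5, hxS, hyS, hx2, hy2, hxy⟩ := two_more h1 L hL hcard q hq5 hq1 hqL hq2 hAq hc hm
    have hAS : gA ∈ (closure {gA, q} : Subgroup M5ˣ) := subset_closure (Set.mem_insert _ _)
    have hqS : q ∈ (closure {gA, q} : Subgroup M5ˣ) := subset_closure (Set.mem_insert_of_mem _ rfl)
    have aux : ∀ w ∈ L, w ^ 5 = 1 → w ∉ (closure {gA, q} : Subgroup M5ˣ) → (∃ k : ℕ, gh2 * w * gh2⁻¹ = w ^ k) →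
        ∃ j : ℕ, w ^ j = q' := by
      intro w hw hw5 hwS hwk
      obtain ⟨j, hj | hj⟩ := hk w hw hw5 (fun j h => hwS (h ▸ pow_mem hAS j)) hwk
      · obtain ⟨i, hi⟩ := pow_inv5 hw5 hq1 hj
        exact absurd (hi ▸ pow_mem hqS i) hwS
      · exact ⟨j, hj⟩
    obtain ⟨j, hj⟩ := aux x hxL hx5 hxS ⟨3, hx2⟩
    obtain ⟨i, hi⟩ := aux y hyL hy5 hyS ⟨2, hy2⟩
    obtain ⟨m, hm⟩ := pow_inv5 hy5 hq1' hi
    apply hxy (j * m)
    rw [pow_mul, hj, hm]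
  rcases h2' L hL with h | h | h | h | h
  · exact main gS gP gS5 gP5 gS_ne gP_ne h gh2_gS gA_pow_ne_gS (le_antisymm card_LS_le cS) mS key
  · exact hR h
  · exact hCL h
  · exact hB h
  · refine main gP gS gP5 gS5 gP_ne gS_ne h gh2_gP gA_pow_ne_gP (le_antisymm card_LP_le cP) mP ?_
    intro x hx hx5 hxA hk
    obtain ⟨j, hj⟩ := key x hx hx5 hxA hk
    exact ⟨j, hj.symm⟩

end Cfsg.Agent.H309.Q5
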