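import Cfsg.Agent.H904.GT.Kap
import Cfsg.Agent.H103.GT.Grp
import Cfsg.Agent.H294.G2.TI
import Cfsg.Agent.H24.Q5.Fus

/-!
# S5211, block `q = 5`: the long root parabolic without `Full D` (helper309)

`ker5` : for `p ≥ 5` an element of `Γ` trivial on `Q_b / Z₃` is inner; then the frame of helper904 (`LbH`) gives everything as
soon as the Weyl element is in `Γ`. With `κ = g w⁻¹`, `κ` commutes with `tor(3,4)` and `tor(1,-1)` modulo `Inn(Q_b)`.
-/

set_option autoImplicit false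
set_option linter.unusedSectionVars false

namespace Cfsg.Agent.H309.Q5.Lb

open Matrix Cfsg Cfsg.FusionSystem Cfsg.Agent.H756.PU Cfsg.Agent.H7.PU.Core Cfsg.Agent.H779.G2
open Cfsg.Agent.H904.GT Cfsg.Agent.H294.G2
open Cfsg.Agent.H802 (exists_conjAut mem_autInducedBy_iff)

universe u

section Ker

variable {K : Type u} [Field K] {p n : ℕ}

/-- `Z₃` inside `Q_b` -/
def N2 (K : Type u) [Field K] : Subgroup (Qb K) where
  carrier := {g | (g : GU K).a = 0 ∧ (g : GU K).c = 0}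
  one_mem' := ⟨rfl, rfl⟩
  mul_mem' := by
    rintro x y ⟨h1, h2⟩ ⟨k1, k2⟩
    refine ⟨?_, ?_⟩
    · rw [mul_a', h1, k1, add_zero]
    · rw [mul_c', h2, k2, add_zero]
  inv_mem' := by
    rintro x ⟨h1, h2⟩
    have h3 := (uu_zero_iff x⁻¹).1 (by rw [uu_inv, (uu_zero_iff x).2 ⟨h1, h2⟩, neg_zero])
    exact h3

/-- `Z₂` inside `Q_b` -/
def N1 (K : Type u) [Field K] : Subgroup (Qb K) where
  carrier := {g | (g : GU K).a = 0 ∧ (g : GU K).c = 0 ∧ (g : GU K).d = 0}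
  one_mem' := ⟨rfl, rfl, rfl⟩
  mul_mem' := by
    rintro x y ⟨h1, h2, h3⟩ ⟨k1, k2, k3⟩
    refine ⟨?_, ?_, ?_⟩
    · rw [mul_a', h1, k1, add_zero]
    · rw [mul_c', h2, k2, add_zero]
    · rw [mul_d', h2, h3, k3]; ring
  inv_mem' := by
    rintro x ⟨h1, h2, h3⟩
    obtain ⟨h4, h5⟩ := (uu_zero_iff x⁻¹).1 (by rw [uu_inv, (uu_zero_iff x).2 ⟨h1, h2⟩, neg_zero])
    refine ⟨h4, h5, ?_⟩
    have h6 : x * x⁻¹ = 1 := mul_inv_cancel x
    have h7 := congrArg (fun w : Qb K => (w : GU K).d) h6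
    simp only [mul_d', h2, h3, h4] at h7
    have h8 : ((1 : Qb K) : GU K).d = 0 := rfl
    rw [h8] at h7
    linear_combination h7

theorem mem_N1 (h2 : (2 : K) ≠ 0) (h3 : (3 : K) ≠ 0) (x : Qb K) : x ∈ N1 K ↔ ∀ y : Qb K, x * y = y * x := by
  rw [central_iff5 h2 h3, uu_zero_iff, and_assoc]
  rfl

theorem comm3 (x y : Qb K) (ha : (x : GU K).a = 0) (hc : (x : GU K).c = 0) :
    x * y = el 0 0 0 (3 * (x : GU K).d * (y : GU K).a) (3 * (x : GU K).d * (y : GU K).c) * (y * x) := by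
  apply Cfsg.Agent.H904.GT.ext'
  · simp only [mul_a', el_a, ha]; ring
  · simp only [mul_c', el_c, hc]; ring
  · simp only [mul_d', mul_a', el_a, el_c, el_d, ha, hc]; ring
  · simp only [mul_e', mul_d', mul_a', el_a, el_c, el_d, el_e, ha, hc]; ring
  · simp only [mul_f', mul_d', mul_a', mul_c', el_a, el_c, el_d, el_e, el_f, ha, hc]; ring

/-- an automorphism trivial on `Q_b / Z₃` stabilizes the chain -/
theorem chain (h2 : (2 : K) ≠ 0) (h3 : (3 : K) ≠ 0) {γ : MulAut (Qb K)}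
    (hγ : ∀ g : Qb K, ((γ g : Qb K) : GU K).a = (g : GU K).a ∧ ((γ g : Qb K) : GU K).c = (g : GU K).c) :
    ChN 3 (fun i => if i = 0 then ⊥ else if i = 1 then N1 K else if i = 2 then N2 K else ⊤) γ := by
  have i1 : ∀ x, x ∈ N1 K ↔ γ x ∈ N1 K := by
    intro x
    rw [mem_N1 h2 h3, mem_N1 h2 h3]
    constructor
    · intro h y
      obtain ⟨y, rfl⟩ := γ.surjective y
      rw [← map_mul, h, map_mul]
    · intro h y
      apply γ.injective
      rw [map_mul, map_mul, h]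
  have i2 : ∀ x, x ∈ N2 K ↔ γ x ∈ N2 K := by
    intro x
    show (_ ∧ _) ↔ (_ ∧ _)
    rw [(hγ x).1, (hγ x).2]
  have t2 : ∀ x : Qb K, γ x * x⁻¹ ∈ N2 K := by
    intro x
    have h5 : uu ((γ x * x⁻¹ : Qb K) : GU K) = 0 := by
      rw [uu_mul, uu_inv]
      have : uu ((γ x : Qb K) : GU K) = uu (x : GU K) := Prod.ext (hγ x).2 (hγ x).1
      rw [this, add_neg_cancel]
    exact (uu_zero_iff _).1 h5
  have d1 : ∀ x ∈ N2 K, ((γ x : Qb K) : GU K).d = (x : GU K).d := by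
    intro x hx
    obtain ⟨u, hu⟩ : ∃ u : Qb K, u = el 0 1 0 0 0 := ⟨_, rfl⟩
    obtain ⟨v, hv⟩ : ∃ v : Qb K, v = el ((x : GU K).d / 2) 0 0 0 0 := ⟨_, rfl⟩
    obtain ⟨c0, hc0⟩ : ∃ c0 : Qb K, c0 = u * v * u⁻¹ * v⁻¹ := ⟨_, rfl⟩
    have e1 := comm u v
    have e2 := comm (γ u) (γ v)
    rw [(hγ u).2, (hγ v).1, (hγ v).2, (hγ u).1] at e2
    rw [← hc0] at e1
    have e3 : γ u * γ v * (γ u)⁻¹ * (γ v)⁻¹ = γ c0 := by
      rw [hc0, map_mul, map_mul, map_mul, map_inv, map_inv]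
    rw [e3] at e2
    have e4 : 2 * ((u : GU K).c * (v : GU K).a - (v : GU K).c * (u : GU K).a) = (x : GU K).d := by
      rw [hu, hv, el_a, el_c, el_a, el_c]
      field_simp
      ring
    rw [e4] at e1 e2
    obtain ⟨e5, e6⟩ := (uu_zero_iff _).1 e1.1
    have e7 : x * c0⁻¹ ∈ N1 K := by
      obtain ⟨e8, e9⟩ := (uu_zero_iff c0⁻¹).1 (by rw [uu_inv, e1.1, neg_zero])
      refine ⟨by rw [mul_a', hx.1, e8, add_zero], by rw [mul_c', hx.2, e9, add_zero], ?_⟩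
      have h6 : x * c0⁻¹ * c0 = x := inv_mul_cancel_right x c0
      have h7 := congrArg (fun w : Qb K => (w : GU K).d) h6
      have h8 : ((x * c0⁻¹ : Qb K) : GU K).c = 0 := by rw [mul_c', hx.2, e9, add_zero]
      simp only [mul_d' (x * c0⁻¹) c0, h8, e1.2] at h7
      linear_combination h7
    have e8 := (i1 _).1 e7
    have e9 : γ x = γ (x * c0⁻¹) * γ c0 := by rw [← map_mul, inv_mul_cancel_right]
    rw [e9, mul_d', e8.2.2, e8.2.1, e2.2]
    ring
  have t1 : ∀ x ∈ N2 K, γ x * x⁻¹ ∈ N1 K := by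
    intro x hx
    obtain ⟨e1, e2⟩ := t2 x
    refine ⟨e1, e2, ?_⟩
    have h6 : γ x * x⁻¹ * x = γ x := inv_mul_cancel_right _ _
    have h7 := congrArg (fun w : Qb K => (w : GU K).d) h6
    simp only [mul_d' (γ x * x⁻¹) x, e2, d1 x hx] at h7
    linear_combination h7
  have t0 : ∀ x ∈ N1 K, γ x = x := by
    intro x hx
    obtain ⟨hx1, hx2, hx3⟩ := hx
    obtain ⟨u, hu⟩ : ∃ u : Qb K, u = el 0 0 1 0 0 := ⟨_, rfl⟩
    obtain ⟨v, hv⟩ : ∃ v : Qb K, v = el ((x : GU K).e / 3) ((x : GU K).f / 3) 0 0 0 := ⟨_, rfl⟩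
    have hu2 : u ∈ N2 K := by rw [hu]; exact ⟨rfl, rfl⟩
    have e1 := comm3 u v hu2.1 hu2.2
    have hgu := (i2 u).1 hu2
    have e2 := comm3 (γ u) (γ v) hgu.1 hgu.2
    rw [d1 u hu2, (hγ v).1, (hγ v).2] at e2
    have e4 : el 0 0 0 (3 * (u : GU K).d * (v : GU K).a) (3 * (u : GU K).d * (v : GU K).c) = x := by
      apply Cfsg.Agent.H904.GT.ext'
      · rw [el_a, hx1]
      · rw [el_c, hx2]
      · rw [el_d, hx3]
      · rw [el_e, hu, hv, el_d, el_a]
        field_simp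
      · rw [el_f, hu, hv, el_d, el_c]
        field_simp
    rw [e4] at e1 e2
    have e5 : γ x * (γ v * γ u) = x * (γ v * γ u) := by
      rw [← e2, ← map_mul, ← map_mul, ← map_mul, e1]
    exact mul_right_cancel e5
  refine ⟨?_, ?_⟩
  · intro i hi x
    rcases (by omega : i = 0 ∨ i = 1 ∨ i = 2 ∨ i = 3) with rfl | rfl | rfl | rfl
    · simp
    · simpa using i1 x
    · simpa using i2 x
    · simp
  · intro i hi x hx
    rcases (by omega : i = 0 ∨ i = 1 ∨ i = 2) with rfl | rfl | rfl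
    · have hx' : x ∈ N1 K := by simpa using hx
      simp [t0 x hx']
    · have hx' : x ∈ N2 K := by simpa using hx
      simpa using t1 x hx'
    · simpa using t2 x

theorem ker5 (h : HypG K p n) (h5 : 5 ≤ p) {Γ : Subgroup (MulAut (Qb K))} {D : Subgroup (MulAut (GU K))}
    (hP : Par p (Qb K) Γ D) {γ : MulAut (Qb K)} (hγΓ : γ ∈ Γ)
    (hγ : ∀ g : Qb K, ((γ g : Qb K) : GU K).a = (g : GU K).a ∧ ((γ g : Qb K) : GU K).c = (g : GU K).c) :
    γ ∈ Inn (Qb K) := by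
  have h2 := Cfsg.Agent.H904.GT.two_ne h (by omega : p ≠ 2)
  have h3 := Cfsg.Agent.H904.GT.three_ne h (by omega : p ≠ 3)
  have hch := chain h2 h3 hγ
  have hexp : ∀ x : Qb K, x ^ p ^ 3 = 1 := fun x => Subtype.ext (exp_GU h (x : GU K))
  have hpg := isPGroup_ChNG (m := 3) (N := fun i => if i = 0 then ⊥ else if i = 1 then N1 K else if i = 2 then N2 K else ⊤)
    (by simp) (by simp) hexp
  have hz : IsPGroup p (Subgroup.zpowers γ) := hpg.to_le (by
    rw [Subgroup.zpowers_le]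
    exact hch)
  obtain ⟨g, hg, hx⟩ := hP.syl _ (by rwa [Subgroup.zpowers_le]) hz
  obtain ⟨x, -, hxx⟩ := (mem_autInducedBy_iff _ _ _).1 (hx γ (Subgroup.mem_zpowers γ))
  have h1 : pi h (by omega : p ≠ 2) (g * γ * g⁻¹) = 1 := by
    have : pi h (by omega : p ≠ 2) γ = 1 := (pi_eq_one_iff h _).2 hγ
    rw [map_mul, map_mul, this, map_inv]
    group
  rw [pi_conj h _ hxx] at h1
  have hb : x ∈ Qb K := by
    have h4 := congrArg (fun e : A2 K => e (0, 1)) h1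
    simp only [tau_apply] at h4
    have h6 := congrArg Prod.fst h4
    have h7 : (1 : A2 K) (0, 1) = (0, 1) := rfl
    rw [h7] at h6
    simp only [zero_add, mul_one] at h6
    exact h6
  have h6 : g * γ * g⁻¹ = MulAut.conj (⟨x, hb⟩ : Qb K) := by
    ext1 e
    apply Subtype.ext
    rw [hxx]
    rfl
  refine ⟨g⁻¹ ⟨x, hb⟩, ?_⟩
  have h7 : γ = g⁻¹ * MulAut.conj (⟨x, hb⟩ : Qb K) * g := by rw [← h6]; group
  rw [h7]
  ext1 e
  show g⁻¹ ⟨x, hb⟩ * e * (g⁻¹ ⟨x, hb⟩)⁻¹ = g⁻¹ (⟨x, hb⟩ * g e * (⟨x, hb⟩)⁻¹)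
  rw [map_mul, map_mul, map_inv]
  congr 2
  exact (MulAut.inv_apply_self _ g e).symm

end Ker

section W

abbrev F : Type := ZMod 5

theorem five0 : (5 : F) = 0 := by decide

theorem hypG5 : HypG F 5 1 := ⟨by norm_num, le_rfl, inferInstance, by rw [Nat.card_zmod, pow_one], inferInstance⟩

theorem inv2 : (2 : F)⁻¹ = 3 := inv_eq_of_mul_eq_one_right (by decide)
theorem inv3 : (3 : F)⁻¹ = 2 := inv_eq_of_mul_eq_one_right (by decide)
theorem inv4 : (4 : F)⁻¹ = 4 := inv_eq_of_mul_eq_one_right (by decide)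

theorem mem_of_add {S : Subgroup (Qb F)} (f : F → Qb F) (hadd : ∀ x y, f (x + y) = f x * f y) (h1 : f 1 ∈ S) (z : F) :
    f z ∈ S := by
  have h0 : f 0 = 1 := by
    have := hadd 0 0
    rw [add_zero] at this
    exact left_eq_mul.1 this
  have key : ∀ k : ℕ, f (k : F) ∈ S := by
    intro k
    induction k with
    | zero => rw [Nat.cast_zero, h0]; exact S.one_mem
    | succ k ih => rw [Nat.cast_succ, hadd]; exact S.mul_mem ih h1
  have := key z.val
  rwa [ZMod.natCast_zmod_val] at this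

/-- `Q_b` is generated by `x₁(1)` and `x₃(1)` -/
theorem gen5 (S : Subgroup (Qb F)) (hX : (el 1 0 0 0 0 : Qb F) ∈ S) (hY : (el 0 1 0 0 0 : Qb F) ∈ S) (x : Qb F) : x ∈ S := by
  have hW : (el 0 0 2 3 3 : Qb F) ∈ S := by
    have h1 : (el 0 1 0 0 0 : Qb F) * el 1 0 0 0 0 = (el 1 0 0 0 0 * el 0 1 0 0 0) * el 0 0 2 3 3 := by
      apply Cfsg.Agent.H904.GT.ext'
      · simp only [mul_a', el_a]; ring
      · simp only [mul_c', el_c]; ring
      · simp only [mul_d', mul_a', mul_c', el_a, el_c, el_d]; ring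
      · simp only [mul_e', mul_d', mul_a', mul_c', el_a, el_c, el_d, el_e]; ring
      · simp only [mul_f', mul_d', mul_a', mul_c', el_a, el_c, el_d, el_f]; ring
    have h2 : (el 0 0 2 3 3 : Qb F) = (el 1 0 0 0 0 * el 0 1 0 0 0)⁻¹ * (el 0 1 0 0 0 * el 1 0 0 0 0) := by
      rw [h1, inv_mul_cancel_left]
    rw [h2]
    exact S.mul_mem (S.inv_mem (S.mul_mem hX hY)) (S.mul_mem hY hX)
  have hE1 : (el 0 0 0 1 0 : Qb F) ∈ S := by
    have h1 := comm3 (el 0 0 2 3 3 : Qb F) (el 1 0 0 0 0) rfl rfl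
    rw [el_d, el_a, el_c, show (3 * 2 * 1 : F) = 1 by decide, show (3 * 2 * 0 : F) = 0 by decide] at h1
    have h2 : (el 0 0 0 1 0 : Qb F) = (el 0 0 2 3 3 * el 1 0 0 0 0) * (el 1 0 0 0 0 * el 0 0 2 3 3)⁻¹ := by
      rw [h1, mul_inv_cancel_right]
    rw [h2]
    exact S.mul_mem (S.mul_mem hW hX) (S.inv_mem (S.mul_mem hX hW))
  have hF1 : (el 0 0 0 0 1 : Qb F) ∈ S := by
    have h1 := comm3 (el 0 0 2 3 3 : Qb F) (el 0 1 0 0 0) rfl rfl
    rw [el_d, el_a, el_c, show (3 * 2 * 1 : F) = 1 by decide, show (3 * 2 * 0 : F) = 0 by decide] at h1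
    have h2 : (el 0 0 0 0 1 : Qb F) = (el 0 0 2 3 3 * el 0 1 0 0 0) * (el 0 1 0 0 0 * el 0 0 2 3 3)⁻¹ := by
      rw [h1, mul_inv_cancel_right]
    rw [h2]
    exact S.mul_mem (S.mul_mem hW hY) (S.inv_mem (S.mul_mem hY hW))
  have hA : ∀ z : F, (el z 0 0 0 0 : Qb F) ∈ S := mem_of_add (fun z => el z 0 0 0 0) (fun x y => by
    apply Cfsg.Agent.H904.GT.ext'
    · simp only [mul_a', el_a]
    · simp only [mul_c', el_c]; ring
    · simp only [mul_d', el_a, el_c, el_d]; ring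
    · simp only [mul_e', el_a, el_c, el_d, el_e]; ring
    · simp only [mul_f', el_a, el_c, el_d, el_f]; ring) hX
  have hC : ∀ z : F, (el 0 z 0 0 0 : Qb F) ∈ S := mem_of_add (fun z => el 0 z 0 0 0) (fun x y => by
    apply Cfsg.Agent.H904.GT.ext'
    · simp only [mul_a', el_a]; ring
    · simp only [mul_c', el_c]
    · simp only [mul_d', el_a, el_c, el_d]; ring
    · simp only [mul_e', el_a, el_c, el_d, el_e]; ring
    · simp only [mul_f', el_a, el_c, el_d, el_f]; ring) hY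
  have hE : ∀ z : F, (el 0 0 0 z 0 : Qb F) ∈ S := mem_of_add (fun z => el 0 0 0 z 0) (fun x y => by
    apply Cfsg.Agent.H904.GT.ext'
    · simp only [mul_a', el_a]; ring
    · simp only [mul_c', el_c]; ring
    · simp only [mul_d', el_a, el_c, el_d]; ring
    · simp only [mul_e', el_a, el_c, el_d, el_e]; ring
    · simp only [mul_f', el_a, el_c, el_d, el_f]; ring) hE1
  have hFf : ∀ z : F, (el 0 0 0 0 z : Qb F) ∈ S := mem_of_add (fun z => el 0 0 0 0 z) (fun x y => by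
    apply Cfsg.Agent.H904.GT.ext'
    · simp only [mul_a', el_a]; ring
    · simp only [mul_c', el_c]; ring
    · simp only [mul_d', el_a, el_c, el_d]; ring
    · simp only [mul_e', el_a, el_c, el_d, el_e]; ring
    · simp only [mul_f', el_a, el_c, el_d, el_f]; ring) hF1
  have hD1 : (el 0 0 2 0 0 : Qb F) ∈ S := by
    have h1 : (el 0 0 2 0 0 : Qb F) = el 0 0 2 3 3 * el 0 0 0 (-3) 0 * el 0 0 0 0 (-3) := by
      apply Cfsg.Agent.H904.GT.ext'
      · simp only [mul_a', el_a]; ring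
      · simp only [mul_c', el_c]; ring
      · simp only [mul_d', mul_a', mul_c', el_a, el_c, el_d]; ring
      · simp only [mul_e', mul_d', mul_a', mul_c', el_a, el_c, el_d, el_e]; ring
      · simp only [mul_f', mul_d', mul_a', mul_c', el_a, el_c, el_d, el_f]; ring
    rw [h1]
    exact S.mul_mem (S.mul_mem hW (hE _)) (hFf _)
  have hD : ∀ z : F, (el 0 0 (2 * z) 0 0 : Qb F) ∈ S := mem_of_add (fun z => el 0 0 (2 * z) 0 0) (fun x y => by
    apply Cfsg.Agent.H904.GT.ext'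
    · simp only [mul_a', el_a]; ring
    · simp only [mul_c', el_c]; ring
    · simp only [mul_d', el_a, el_c, el_d]; ring
    · simp only [mul_e', el_a, el_c, el_d, el_e]; ring
    · simp only [mul_f', el_a, el_c, el_d, el_f]; ring) (by
      show (el 0 0 (2 * 1) 0 0 : Qb F) ∈ S
      rw [mul_one]
      exact hD1)
  have hD' : ∀ z : F, (el 0 0 z 0 0 : Qb F) ∈ S := fun z => by
    have h1 := hD (3 * z)
    rwa [show (2 : F) * (3 * z) = z by linear_combination z * five0] at h1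
  have hx : x = el (x : GU F).a 0 0 0 0 * el 0 (x : GU F).c 0 0 0 * el 0 0 (x : GU F).d 0 0 *
      el 0 0 0 (x : GU F).e 0 * el 0 0 0 0 (x : GU F).f := by
    apply Cfsg.Agent.H904.GT.ext'
    · simp only [mul_a', el_a]; ring
    · simp only [mul_c', el_c]; ring
    · simp only [mul_d', mul_c', el_a, el_c, el_d]; ring
    · simp only [mul_e', mul_d', mul_c', el_a, el_c, el_d, el_e]; ring
    · simp only [mul_f', mul_d', mul_c', el_a, el_c, el_d, el_f]; ring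
  rw [hx]
  exact S.mul_mem (S.mul_mem (S.mul_mem (S.mul_mem (hA _) (hC _)) (hD' _)) (hE _)) (hFf _)

theorem eq_one5 {κ : MulAut (Qb F)} (hX : κ (el 1 0 0 0 0) = el 1 0 0 0 0) (hY : κ (el 0 1 0 0 0) = el 0 1 0 0 0) : κ = 1 := by
  ext1 x
  exact gen5 (MonoidHom.eqLocus κ.toMonoidHom (MonoidHom.id _)) hX hY x

theorem tb_el {δ : MulAut (Qb F)} {s t : F} (hδ : IsTb δ s t) (a c d e f : F) :
    δ (el a c d e f) = el (s * a) (s * t * c) (s ^ 2 * t * d) (s ^ 3 * t * e) (s ^ 3 * t ^ 2 * f) := by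
  apply Cfsg.Agent.H904.GT.ext'
  · rw [hδ.a]; rfl
  · rw [hδ.c]; rfl
  · rw [hδ.d]; rfl
  · rw [hδ.e]; rfl
  · rw [hδ.f]; rfl

variable {Γ : Subgroup (MulAut (Qb F))} {D : Subgroup (MulAut (GU F))}

theorem lbh (hP : Par 5 (Qb F) Γ D) : LbH F 5 1 Γ D :=
  ⟨hypG5, by norm_num, by norm_num, hP, fun _ hγ h => ker5 hypG5 le_rfl hP hγ h, Cfsg.Agent.H103.GT.stGrp⟩

theorem exists_tb5 (h : LbH F 5 1 Γ D) {s t : F} (hs : s ≠ 0) (ht : t ≠ 0)
    (hD : ∀ α, IsTor α s t (RingEquiv.refl F) → α ∈ D) : ∃ δ ∈ Γ, IsTb δ s t := by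
  obtain ⟨α, hα⟩ := (h.grp h.hyp).2.2.1 s t (RingEquiv.refl F) hs ht
  obtain ⟨δ, hδ⟩ := exists_restr α hα
  refine ⟨δ, h.par.D_res α (hD α hα) δ hδ, ?_⟩
  constructor
  · intro g; rw [hδ, hα.a]; rfl
  · intro g; rw [hδ, hα.c]; rfl
  · intro g; rw [hδ, hα.d]; rfl
  · intro g; rw [hδ, hα.e]; rfl
  · intro g; rw [hδ, hα.f]; rfl

/-- equivariance modulo inner automorphisms -/
theorem equi5 (h : LbH F 5 1 Γ D) {w g : MulAut (Qb F)} (hw : IsWb w) (hg : g ∈ Γ)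
    (hgw : pi h.hyp h.odd g = pi h.hyp h.odd w) {s t s' t' : F} (ht : t ≠ 0) (hs' : s' = s * t) (ht' : t' = t⁻¹)
    (h1 : ∃ δ ∈ Γ, IsTb δ s t) (h2 : ∃ δ ∈ Γ, IsTb δ s' t') : ∃ δ : MulAut (Qb F), IsTb δ s t ∧ ∃ q : Qb F, ∀ x : Qb F,
      (g * w⁻¹) (δ x) * q = q * δ ((g * w⁻¹) x) := by
  subst hs' ht'
  obtain ⟨δ, hδΓ, hδ⟩ := h1
  obtain ⟨δ', hδ'Γ, hδ'⟩ := h2
  have h1 := tb_wb ht hδ hδ' hw
  have h2 : (g * w⁻¹) * δ * (g * w⁻¹)⁻¹ * δ⁻¹ = g * δ' * g⁻¹ * δ⁻¹ := by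
    have h3 : w⁻¹ * δ * w = δ' := by rw [mul_assoc, ← h1]; group
    rw [← h3]
    group
  have h3 : (g * w⁻¹) * δ * (g * w⁻¹)⁻¹ * δ⁻¹ ∈ Inn (Qb F) := by
    apply h.ker'
    · rw [h2]
      exact mul_mem (mul_mem (mul_mem hg hδ'Γ) (inv_mem hg)) (inv_mem hδΓ)
    · have h4 : pi h.hyp h.odd (g * w⁻¹) = 1 := by rw [map_mul, map_inv, hgw, mul_inv_cancel]
      rw [map_mul, map_mul, map_mul, map_inv, h4, map_inv]
      group
  obtain ⟨q, hq⟩ := h3
  refine ⟨δ, hδ, q, fun x => ?_⟩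
  have h4 : MulAut.conj q * (δ * (g * w⁻¹)) = (g * w⁻¹) * δ := by
    rw [hq]
    group
  have h5 := congrArg (fun θ : MulAut (Qb F) => θ x) h4
  have h6 : (g * w⁻¹) (δ x) = q * δ ((g * w⁻¹) x) * q⁻¹ := h5.symm
  rw [h6, inv_mul_cancel_right]

/-- the normalized lift of the Weyl element -/
theorem exists_norm (h : LbH F 5 1 Γ D) {w : MulAut (Qb F)} (hw : IsWb w) : ∃ g ∈ Γ,
    pi h.hyp h.odd g = pi h.hyp h.odd w ∧ (∃ φ, (g * w⁻¹) (el 1 0 0 0 0) = el 1 0 0 0 φ) ∧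
    ∃ ε ψ, (g * w⁻¹) (el 0 1 0 0 0) = el 0 1 0 ε ψ := by
  obtain ⟨g, hg, hgw⟩ := h.exists_g hw
  have hk : pi h.hyp h.odd (g * w⁻¹) = 1 := by rw [map_mul, map_inv, hgw, mul_inv_cancel]
  rw [pi_eq_one_iff] at hk
  obtain ⟨X', hX'⟩ : ∃ X', X' = (g * w⁻¹) (el 1 0 0 0 0) := ⟨_, rfl⟩
  obtain ⟨Y', hY'⟩ : ∃ Y', Y' = (g * w⁻¹) (el 0 1 0 0 0) := ⟨_, rfl⟩
  have hXa : (X' : GU F).a = 1 := by rw [hX', (hk _).1]; rfl
  have hXc : (X' : GU F).c = 0 := by rw [hX', (hk _).2]; rfl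
  have hYa : (Y' : GU F).a = 0 := by rw [hY', (hk _).1]; rfl
  have hYc : (Y' : GU F).c = 1 := by rw [hY', (hk _).2]; rfl
  obtain ⟨q, hq⟩ : ∃ q : Qb F, q = el (2 * (Y' : GU F).d) (3 * (X' : GU F).d)
    (2 * ((X' : GU F).e + 6 * (2 * (Y' : GU F).d) * (3 * (X' : GU F).d) - 3 * (3 * (X' : GU F).d))) 0 0 := ⟨_, rfl⟩
  obtain ⟨x, hx⟩ : ∃ x, x = q⁻¹ * X' * q := ⟨_, rfl⟩
  obtain ⟨y, hy⟩ : ∃ y, y = q⁻¹ * Y' * q := ⟨_, rfl⟩
  have hx' : q * x = X' * q := by rw [hx]; group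
  have hy' : q * y = Y' * q := by rw [hy]; group
  have xa : (x : GU F).a = 1 := by
    have h1 := congrArg (fun w : Qb F => (w : GU F).a) hx'
    simp only [mul_a', hXa] at h1
    linear_combination h1
  have xc : (x : GU F).c = 0 := by
    have h1 := congrArg (fun w : Qb F => (w : GU F).c) hx'
    simp only [mul_c', hXc] at h1
    linear_combination h1
  have xd : (x : GU F).d = 0 := by
    have h1 := congrArg (fun w : Qb F => (w : GU F).d) hx'
    simp only [mul_d', hXc, xa] at h1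
    rw [hq, el_d, el_c] at h1
    linear_combination h1 - (X' : GU F).d * five0
  have xe : (x : GU F).e = 0 := by
    have h1 := congrArg (fun w : Qb F => (w : GU F).e) hx'
    simp only [mul_e', hXc, xa] at h1
    rw [hq, el_d, el_c, el_e, el_a] at h1
    linear_combination h1 - ((X' : GU F).e) * five0 + (9 * (X' : GU F).d - 42 * (Y' : GU F).d * (X' : GU F).d) * five0
  have ya : (y : GU F).a = 0 := by
    have h1 := congrArg (fun w : Qb F => (w : GU F).a) hy'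
    simp only [mul_a', hYa] at h1
    linear_combination h1
  have yc : (y : GU F).c = 1 := by
    have h1 := congrArg (fun w : Qb F => (w : GU F).c) hy'
    simp only [mul_c', hYc] at h1
    linear_combination h1
  have yd : (y : GU F).d = 0 := by
    have h1 := congrArg (fun w : Qb F => (w : GU F).d) hy'
    simp only [mul_d', hYc, ya] at h1
    rw [hq, el_d, el_c, el_a] at h1
    linear_combination h1 + (Y' : GU F).d * five0
  have hqI : MulAut.conj q⁻¹ ∈ Inn (Qb F) := ⟨q⁻¹, rfl⟩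
  have hqG := h.Inn_le_G hqI
  have hqp : pi h.hyp h.odd (MulAut.conj q⁻¹) = 1 := by
    have h1 : pi h.hyp h.odd (MulAut.conj q⁻¹) = tau ((q⁻¹ : Qb F) : GU F).b := pi_conj h.hyp h.odd (fun e => rfl)
    rw [h1, b_Qb]
    apply Cfsg.Agent.H7.PU.Core.ext'
    intro u
    rw [tau_apply, zero_mul, add_zero]
    rfl
  have hc : ∀ z : Qb F, (MulAut.conj q⁻¹ * g * w⁻¹) z = q⁻¹ * ((g * w⁻¹) z) * q := by
    intro z
    rw [mul_assoc, MulAut.mul_apply, MulAut.conj_apply, inv_inv]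
  refine ⟨MulAut.conj q⁻¹ * g, mul_mem hqG hg, by rw [map_mul, hqp, hgw, one_mul], ⟨(x : GU F).f, ?_⟩,
    ⟨(y : GU F).e, (y : GU F).f, ?_⟩⟩
  · rw [hc, ← hX', ← hx]
    exact Cfsg.Agent.H904.GT.ext' xa xc xd xe rfl
  · rw [hc, ← hY', ← hy]
    exact Cfsg.Agent.H904.GT.ext' ya yc yd rfl rfl

/-- the Weyl element is in `Γ` -/
theorem wb_mem (h : LbH F 5 1 Γ D) (hD : ∀ α, IsTor α 1 (-1) (RingEquiv.refl F) → α ∈ D) {w : MulAut (Qb F)}
    (hw : IsWb w) : w ∈ Γ := by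
  obtain ⟨g, hg, hgw, ⟨φ, hφ⟩, ⟨ε, ψ, hψ⟩⟩ := exists_norm h hw
  have hT := h.hasTor
  have d34 : ∃ δ ∈ Γ, IsTb δ (3 : F) 4 := exists_tb5 h (by decide) (by decide) (fun α hα => hT 2 (by decide) α (by
    show IsTor α (2 : F)⁻¹ ((2 : F) ^ 2) (RingEquiv.refl F)
    rw [inv2, show ((2 : F)) ^ 2 = 4 by decide]
    exact hα))
  have d24 : ∃ δ ∈ Γ, IsTb δ (2 : F) 4 := exists_tb5 h (by decide) (by decide) (fun α hα => hT 3 (by decide) α (by
    show IsTor α (3 : F)⁻¹ ((3 : F) ^ 2) (RingEquiv.refl F)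
    rw [inv3, show ((3 : F)) ^ 2 = 4 by decide]
    exact hα))
  have d14 : ∃ δ ∈ Γ, IsTb δ (1 : F) 4 := exists_tb5 h (by decide) (by decide) (fun α hα => hD α (by
    rw [show (-1 : F) = 4 by decide]
    exact hα))
  have d41 : ∃ δ ∈ Γ, IsTb δ (4 : F) 1 := exists_tb5 h (by decide) (by decide) (fun α hα => hT 4 (by decide) α (by
    show IsTor α (4 : F)⁻¹ ((4 : F) ^ 2) (RingEquiv.refl F)
    rw [inv4, show ((4 : F)) ^ 2 = 1 by decide]
    exact hα))
  have d44 : ∃ δ ∈ Γ, IsTb δ (4 : F) 4 := by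
    obtain ⟨δ, hδ, hδ'⟩ := d14
    obtain ⟨η, hη, hη'⟩ := d41
    refine ⟨δ * η, mul_mem hδ hη, ?_⟩
    constructor
    · intro x; rw [MulAut.mul_apply, hδ'.a, hη'.a]; ring
    · intro x; rw [MulAut.mul_apply, hδ'.c, hη'.c]; ring
    · intro x; rw [MulAut.mul_apply, hδ'.d, hη'.d]; ring
    · intro x; rw [MulAut.mul_apply, hδ'.e, hη'.e]; ring
    · intro x; rw [MulAut.mul_apply, hδ'.f, hη'.f]; ring
  obtain ⟨δ, hδ, q, hq⟩ := equi5 h hw hg hgw (s := 3) (t := 4) (s' := 2) (t' := 4) (by decide) (by decide) inv4.symm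
    d34 d24
  obtain ⟨η, hη, r, hr⟩ := equi5 h hw hg hgw (s := 1) (t := 4) (s' := 4) (t' := 4) (by decide) (by decide) inv4.symm
    d14 d44
  have hX3 : δ (el 1 0 0 0 0) = el 1 0 0 0 0 * el 1 0 0 0 0 * el 1 0 0 0 0 := by
    rw [tb_el hδ]
    apply Cfsg.Agent.H904.GT.ext'
    · simp only [mul_a', el_a]; ring
    · simp only [mul_c', el_c]; ring
    · simp only [mul_d', mul_c', el_a, el_c, el_d]; ring
    · simp only [mul_e', mul_d', mul_c', el_a, el_c, el_d, el_e]; ring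
    · simp only [mul_f', mul_d', mul_c', el_a, el_c, el_d, el_f]; ring
  have hY3 : δ (el 0 1 0 0 0) = el 0 1 0 0 0 * el 0 1 0 0 0 := by
    rw [tb_el hδ]
    apply Cfsg.Agent.H904.GT.ext'
    · simp only [mul_a', el_a]; ring
    · simp only [mul_c', el_c]; linear_combination 2 * five0
    · simp only [mul_d', el_a, el_c, el_d]; ring
    · simp only [mul_e', mul_d', mul_c', el_a, el_c, el_d, el_e]; ring
    · simp only [mul_f', mul_d', mul_c', el_a, el_c, el_d, el_f]; ring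
  have hX1 : η (el 1 0 0 0 0) = el 1 0 0 0 0 := by
    rw [tb_el hη]
    apply Cfsg.Agent.H904.GT.ext'
    · simp only [el_a]; ring
    · simp only [el_c]; ring
    · simp only [el_d]; ring
    · simp only [el_e]; ring
    · simp only [el_f]; ring
  have hY1 : η (el 0 1 0 0 0) = el 0 1 0 0 0 * el 0 1 0 0 0 * el 0 1 0 0 0 * el 0 1 0 0 0 := by
    rw [tb_el hη]
    apply Cfsg.Agent.H904.GT.ext'
    · simp only [mul_a', el_a]; ring
    · simp only [mul_c', el_c]; ring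
    · simp only [mul_d', mul_a', mul_c', el_a, el_c, el_d]; ring
    · simp only [mul_e', mul_d', mul_a', mul_c', el_a, el_c, el_d, el_e]; ring
    · simp only [mul_f', mul_d', mul_a', mul_c', el_a, el_c, el_d, el_f]; ring
  -- the equations from `tor(3,4)`
  have e1 := hq (el 1 0 0 0 0)
  rw [hX3, map_mul, map_mul, hφ, tb_el hδ] at e1
  have e2 := hq (el 0 1 0 0 0)
  rw [hY3, map_mul, hψ, tb_el hδ] at e2
  have qc : (q : GU F).c = 0 := by
    have h1 := congrArg (fun w : Qb F => (w : GU F).d) e1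
    simp only [mul_d', mul_c', mul_a', el_a, el_c, el_d] at h1
    linear_combination -h1 - (q : GU F).c * five0
  have qd : (q : GU F).d = 0 := by
    have h1 := congrArg (fun w : Qb F => (w : GU F).e) e1
    simp only [mul_e', mul_d', mul_c', mul_a', el_a, el_c, el_d, el_e, qc] at h1
    linear_combination h1 + 2 * (q : GU F).d * five0
  have hφ0 : φ = 0 := by
    have h1 := congrArg (fun w : Qb F => (w : GU F).f) e1
    simp only [mul_f', mul_d', mul_c', mul_a', el_a, el_c, el_d, el_f, qc, qd] at h1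
    linear_combination h1 + 86 * φ * five0
  have qa : (q : GU F).a = 0 := by
    have h1 := congrArg (fun w : Qb F => (w : GU F).d) e2
    simp only [mul_d', mul_c', mul_a', el_a, el_c, el_d] at h1
    linear_combination -h1 + (q : GU F).a * five0
  have hε0 : ε = 0 := by
    have h1 := congrArg (fun w : Qb F => (w : GU F).e) e2
    simp only [mul_e', mul_d', mul_c', mul_a', el_a, el_c, el_d, el_e, qc, qd, qa] at h1
    linear_combination -h1 - 21 * ε * five0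
  -- the equations from `tor(1,-1)`
  have e3 := hr (el 1 0 0 0 0)
  rw [hX1, hφ, tb_el hη] at e3
  have e4 := hr (el 0 1 0 0 0)
  rw [hY1, map_mul, map_mul, map_mul, hψ, tb_el hη] at e4
  have rc : (r : GU F).c = 0 := by
    have h1 := congrArg (fun w : Qb F => (w : GU F).d) e3
    simp only [mul_d', el_a, el_c, el_d] at h1
    linear_combination 2 * h1 + (r : GU F).c * five0
  have rd : (r : GU F).d = 0 := by
    have h1 := congrArg (fun w : Qb F => (w : GU F).e) e3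
    simp only [mul_e', el_a, el_c, el_d, el_e, rc] at h1
    linear_combination -2 * h1 - (r : GU F).d * five0
  have ra : (r : GU F).a = 0 := by
    have h1 := congrArg (fun w : Qb F => (w : GU F).d) e4
    simp only [mul_d', mul_c', mul_a', el_a, el_c, el_d] at h1
    linear_combination 2 * h1 - 3 * (r : GU F).a * five0
  have hψ0 : ψ = 0 := by
    have h1 := congrArg (fun w : Qb F => (w : GU F).f) e4
    simp only [mul_f', mul_d', mul_c', mul_a', el_a, el_c, el_d, el_f, rc, rd, ra] at h1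
    linear_combination 2 * h1 + 5 * ψ * five0
  rw [hφ0] at hφ
  rw [hε0, hψ0] at hψ
  have hone := eq_one5 hφ hψ
  rwa [← mul_inv_eq_one.1 hone]

end W

/-- **(LB5) The long root parabolic at `q = 5`.** -/
theorem stLb5 : Cfsg.Agent.H24.Q5.StLb5 := by
  intro Γ D hP
  have h := lbh hP
  refine ⟨h.hasTor, fun hD => ?_⟩
  obtain ⟨w, hw⟩ := (h.grp h.hyp).2.2.2.2.2.1
  exact h.eq_Gen hw (wb_mem h hD hw)

end Cfsg.Agent.H309.Q5.Lb
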