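import Cfsg.Agent.H24.Q5.Mat

/-!
# S5211, q = 5, piece M5: upper bounds for the orders of `LS`, `LP`, `LR`

Each of the three groups is listed; the list is closed under right multiplication by the two generators.
-/

set_option autoImplicit false

namespace Cfsg.Agent.H309.Q5

open Cfsg.Agent.H24.Q5

/-- a list of matrices closed under right multiplication by two units bounds the order of the group they generate -/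
theorem card_closure_le (a b : M5ˣ) (l : List M5) (h1 : (1 : M5) ∈ l) (pa pb : List ℕ)
    (ha : l.map (fun x => x * (a : M5)) = pa.map (fun i => l.getD i 1))
    (hb : l.map (fun x => x * (b : M5)) = pb.map (fun i => l.getD i 1)) :
    Nat.card (Subgroup.closure {a, b} : Subgroup M5ˣ) ≤ l.length := by
  classical
  have hget : ∀ i : ℕ, l.getD i 1 ∈ l := by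
    intro i
    rcases lt_or_ge i l.length with h | h
    · rw [List.getD_eq_getElem _ _ h]; exact List.getElem_mem h
    · rw [List.getD_eq_default _ _ h]; exact h1
  have key : ∀ (c : M5ˣ) (pc : List ℕ), l.map (fun x => x * (c : M5)) = pc.map (fun i => l.getD i 1) →
      ∀ x ∈ l, x * (c : M5) ∈ l := by
    intro c pc hc x hx
    have : x * (c : M5) ∈ l.map (fun x => x * (c : M5)) := List.mem_map.2 ⟨x, hx, rfl⟩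
    rw [hc] at this
    obtain ⟨i, -, hi⟩ := List.mem_map.1 this
    rw [← hi]; exact hget i
  have ka := key a pa ha
  have kb := key b pb hb
  have hall : ∀ g ∈ (Subgroup.closure {a, b} : Subgroup M5ˣ), ∀ x ∈ l, x * (g : M5) ∈ l := by
    intro g hg
    induction hg using Subgroup.closure_induction with
    | mem y hy =>
      rcases hy with rfl | hy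
      · exact ka
      · rw [Set.mem_singleton_iff] at hy; subst hy; exact kb
    | one => intro x hx; simpa using hx
    | mul y z _ _ hy hz =>
      intro x hx
      rw [Units.val_mul, ← mul_assoc]
      exact hz _ (hy x hx)
    | inv y _ hy =>
      have hp : ∀ n : ℕ, ∀ x ∈ l, x * ((y ^ n : M5ˣ) : M5) ∈ l := by
        intro n
        induction n with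
        | zero => intro x hx; simpa using hx
        | succ n ih =>
          intro x hx
          rw [pow_succ, Units.val_mul, ← mul_assoc]
          exact hy _ (ih x hx)
      have ho : 0 < orderOf y := orderOf_pos y
      have : y⁻¹ = y ^ (orderOf y - 1) := by
        rw [inv_eq_iff_mul_eq_one, ← pow_succ', Nat.sub_add_cancel ho, pow_orderOf_eq_one]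
      rw [this]; exact hp _
  let f : (Subgroup.closure {a, b} : Subgroup M5ˣ) → l.toFinset := fun g =>
    ⟨((g : M5ˣ) : M5), by
      rw [List.mem_toFinset]
      have := hall g.1 g.2 1 h1
      rwa [one_mul] at this⟩
  have hf : Function.Injective f := by
    intro x y hxy
    have h := congrArg Subtype.val hxy
    exact Subtype.ext (Units.ext h)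
  calc Nat.card (Subgroup.closure {a, b} : Subgroup M5ˣ) ≤ Nat.card l.toFinset := Nat.card_le_card_of_injective f hf
    _ = l.toFinset.card := by rw [Nat.card_eq_fintype_card, Fintype.card_coe]
    _ ≤ l.length := List.toFinset_card_le l

/-- the elements of `LS` -/
def lS : List M5 := [
  !![1, 0, 0, 0; 0, 1, 0, 0; 0, 0, 1, 0; 0, 0, 0, 1],
  !![1, 2, 3, 1; 0, 1, 3, 4; 0, 0, 1, 1; 0, 0, 0, 1],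
  !![1, 0, 0, 0; 1, 1, 0, 0; 1, 2, 1, 0; 4, 2, 2, 1],
  !![1, 4, 2, 3; 0, 1, 1, 1; 0, 0, 1, 2; 0, 0, 0, 1],
  !![0, 0, 0, 1; 0, 0, 1, 4; 0, 4, 3, 1; 4, 2, 2, 1],
  !![1, 2, 3, 1; 1, 3, 1, 0; 1, 4, 0, 0; 4, 0, 0, 0],
  !![1, 0, 0, 0; 2, 1, 0, 0; 4, 4, 1, 0; 2, 3, 4, 1],
  !![1, 1, 2, 2; 0, 1, 4, 1; 0, 0, 1, 3; 0, 0, 0, 1],
  !![4, 4, 3, 3; 1, 0, 3, 1; 4, 1, 0, 2; 4, 2, 2, 1],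
  !![0, 0, 0, 1; 0, 0, 1, 0; 0, 4, 0, 0; 4, 0, 0, 0],
  !![4, 2, 2, 1; 2, 0, 4, 4; 1, 2, 0, 1; 2, 3, 4, 1],
  !![1, 4, 2, 3; 1, 0, 3, 4; 1, 1, 0, 2; 4, 3, 2, 4],
  !![1, 2, 3, 1; 2, 0, 4, 1; 4, 2, 0, 1; 2, 2, 4, 4],
  !![1, 0, 0, 0; 3, 1, 0, 0; 4, 1, 1, 0; 3, 3, 1, 1],
  !![1, 3, 3, 4; 0, 1, 2, 4; 0, 0, 1, 4; 0, 0, 0, 1],
  !![2, 4, 1, 2; 4, 1, 1, 1; 3, 3, 2, 3; 4, 2, 2, 1],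
  !![4, 2, 2, 1; 1, 2, 1, 0; 4, 4, 0, 0; 4, 0, 0, 0],
  !![3, 1, 4, 3; 3, 3, 0, 1; 3, 0, 4, 2; 2, 3, 4, 1],
  !![0, 0, 0, 1; 0, 0, 1, 1; 0, 4, 2, 1; 4, 3, 2, 4],
  !![4, 0, 0, 0; 2, 4, 0, 0; 1, 4, 4, 0; 2, 2, 4, 4],
  !![2, 3, 4, 1; 2, 1, 2, 4; 2, 4, 2, 1; 3, 3, 1, 1],
  !![1, 1, 2, 2; 1, 2, 1, 3; 1, 3, 1, 2; 4, 1, 3, 2],
  !![4, 4, 3, 3; 0, 4, 1, 4; 0, 0, 4, 2; 0, 0, 0, 4],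
  !![1, 4, 2, 3; 2, 4, 0, 2; 4, 0, 3, 3; 2, 1, 1, 3],
  !![1, 2, 3, 1; 3, 2, 2, 2; 4, 4, 1, 4; 3, 4, 4, 2],
  !![1, 0, 0, 0; 4, 1, 0, 0; 1, 3, 1, 0; 1, 2, 3, 1],
  !![3, 2, 1, 4; 4, 3, 0, 4; 2, 0, 4, 4; 4, 2, 2, 1],
  !![2, 3, 4, 1; 4, 4, 1, 0; 3, 4, 0, 0; 4, 0, 0, 0],
  !![0, 0, 0, 2; 0, 0, 3, 1; 0, 3, 3, 3; 2, 3, 4, 1],
  !![4, 0, 0, 0; 1, 4, 0, 0; 4, 2, 4, 0; 4, 3, 2, 4],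
  !![3, 2, 1, 4; 3, 4, 3, 1; 3, 1, 3, 4; 2, 2, 4, 4],
  !![0, 0, 0, 3; 0, 0, 2, 1; 0, 2, 3, 2; 3, 3, 1, 1],
  !![0, 0, 0, 1; 0, 0, 1, 2; 0, 4, 4, 4; 4, 1, 3, 2],
  !![4, 2, 2, 1; 0, 4, 3, 1; 0, 0, 4, 1; 0, 0, 0, 4],
  !![4, 3, 2, 4; 2, 3, 3, 3; 1, 1, 4, 1; 2, 1, 1, 3],
  !![2, 2, 4, 4; 2, 0, 1, 2; 2, 3, 0, 1; 3, 4, 4, 2],
  !![3, 3, 1, 1; 1, 3, 0, 4; 2, 0, 4, 1; 1, 2, 3, 1],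
  !![1, 3, 3, 4; 1, 4, 0, 3; 1, 0, 3, 1; 4, 4, 3, 3],
  !![2, 4, 1, 2; 1, 0, 2, 3; 3, 4, 0, 2; 1, 1, 2, 2],
  !![3, 1, 4, 3; 1, 4, 4, 4; 2, 2, 3, 2; 1, 3, 3, 4],
  !![1, 1, 2, 2; 2, 3, 3, 0; 4, 3, 0, 0; 2, 0, 0, 0],
  !![4, 4, 3, 3; 4, 3, 4, 2; 4, 2, 4, 3; 1, 4, 2, 3],
  !![1, 4, 2, 3; 3, 3, 2, 0; 4, 2, 0, 0; 3, 0, 0, 0],
  !![1, 2, 3, 1; 4, 4, 0, 3; 1, 0, 3, 4; 1, 4, 2, 3],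
  !![3, 3, 1, 1; 4, 1, 1, 0; 2, 4, 0, 0; 4, 0, 0, 0],
  !![2, 2, 4, 4; 3, 1, 3, 4; 2, 1, 2, 4; 2, 3, 4, 1],
  !![2, 2, 4, 4; 4, 2, 0, 1; 3, 0, 1, 4; 4, 3, 2, 4],
  !![0, 0, 0, 2; 0, 0, 3, 4; 0, 3, 2, 3; 2, 2, 4, 4],
  !![3, 4, 4, 2; 2, 3, 0, 1; 3, 0, 4, 3; 3, 3, 1, 1],
  !![4, 3, 2, 4; 1, 1, 0, 2; 4, 0, 2, 1; 4, 1, 3, 2],
  !![4, 0, 0, 0; 0, 4, 0, 0; 0, 0, 4, 0; 0, 0, 0, 4],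
  !![3, 3, 1, 1; 3, 0, 4, 3; 3, 2, 0, 4; 2, 1, 1, 3],
  !![0, 0, 0, 3; 0, 0, 2, 3; 0, 2, 4, 3; 3, 4, 4, 2],
  !![2, 1, 1, 3; 1, 1, 4, 1; 3, 2, 2, 2; 1, 2, 3, 1],
  !![0, 0, 0, 1; 0, 0, 1, 3; 0, 4, 1, 4; 4, 4, 3, 3],
  !![4, 2, 2, 1; 4, 1, 0, 2; 4, 0, 2, 4; 1, 1, 2, 2],
  !![2, 3, 4, 1; 1, 2, 0, 1; 3, 0, 1, 1; 1, 3, 3, 4],
  !![4, 1, 3, 2; 2, 2, 3, 0; 1, 3, 0, 0; 2, 0, 0, 0],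
  !![0, 0, 0, 4; 0, 0, 4, 3; 0, 1, 1, 1; 1, 4, 2, 3],
  !![2, 1, 1, 3; 2, 4, 2, 0; 2, 2, 0, 0; 3, 0, 0, 0],
  !![3, 4, 4, 2; 1, 0, 2, 2; 2, 4, 0, 2; 1, 4, 2, 3],
  !![3, 2, 1, 4; 2, 0, 1, 3; 3, 3, 0, 1; 3, 1, 4, 3],
  !![0, 0, 0, 2; 0, 0, 3, 3; 0, 3, 4, 2; 2, 4, 1, 2],
  !![3, 2, 1, 4; 1, 1, 4, 0; 2, 1, 0, 0; 1, 0, 0, 0],
  !![0, 0, 0, 3; 0, 0, 2, 4; 0, 2, 2, 2; 3, 2, 1, 4],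
  !![1, 3, 3, 4; 2, 2, 3, 2; 4, 1, 1, 1; 2, 4, 1, 2],
  !![2, 4, 1, 2; 3, 4, 3, 0; 2, 3, 0, 0; 2, 0, 0, 0],
  !![3, 1, 4, 3; 4, 0, 3, 2; 2, 1, 0, 3; 4, 4, 3, 3],
  !![1, 1, 2, 2; 3, 4, 0, 2; 4, 0, 3, 2; 3, 1, 4, 3],
  !![4, 4, 3, 3; 3, 2, 2, 0; 1, 2, 0, 0; 3, 0, 0, 0],
  !![1, 4, 2, 3; 4, 2, 4, 3; 1, 2, 1, 3; 1, 1, 2, 2],
  !![3, 4, 4, 2; 4, 4, 1, 4; 2, 3, 3, 3; 4, 3, 2, 4],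
  !![2, 1, 1, 3; 3, 2, 0, 4; 2, 0, 1, 2; 2, 2, 4, 4],
  !![4, 3, 2, 4; 3, 0, 1, 4; 1, 3, 0, 4; 3, 3, 1, 1],
  !![2, 1, 1, 3; 4, 0, 3, 3; 3, 1, 0, 3; 4, 1, 3, 2],
  !![4, 3, 2, 4; 0, 4, 2, 1; 0, 0, 4, 4; 0, 0, 0, 4],
  !![0, 0, 0, 2; 0, 0, 3, 2; 0, 3, 1, 2; 2, 1, 1, 3],
  !![3, 0, 0, 0; 2, 2, 0, 0; 3, 1, 3, 0; 3, 4, 4, 2],
  !![4, 1, 3, 2; 4, 0, 2, 1; 4, 4, 0, 3; 1, 2, 3, 1],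
  !![4, 1, 3, 2; 1, 3, 1, 2; 4, 3, 4, 2; 4, 4, 3, 3],
  !![0, 0, 0, 4; 0, 0, 4, 2; 0, 1, 4, 1; 1, 1, 2, 2],
  !![4, 0, 0, 0; 4, 4, 0, 0; 4, 3, 4, 0; 1, 3, 3, 4],
  !![3, 4, 4, 2; 3, 1, 3, 0; 3, 3, 0, 0; 2, 0, 0, 0],
  !![0, 0, 0, 3; 0, 0, 2, 0; 0, 2, 0, 0; 3, 0, 0, 0],
  !![2, 0, 0, 0; 1, 3, 0, 0; 3, 3, 2, 0; 1, 4, 2, 3],
  !![4, 2, 2, 1; 3, 3, 2, 3; 1, 4, 4, 4; 3, 1, 4, 3],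
  !![2, 3, 4, 1; 3, 0, 4, 2; 2, 2, 0, 4; 2, 4, 1, 2],
  !![2, 2, 4, 4; 1, 4, 4, 0; 3, 1, 0, 0; 1, 0, 0, 0],
  !![3, 3, 1, 1; 2, 4, 2, 1; 3, 4, 3, 1; 3, 2, 1, 4],
  !![4, 4, 3, 3; 2, 1, 0, 3; 1, 0, 2, 3; 2, 4, 1, 2],
  !![2, 0, 0, 0; 2, 3, 0, 0; 2, 1, 2, 0; 3, 1, 4, 3],
  !![3, 0, 0, 0; 1, 2, 0, 0; 2, 3, 3, 0; 1, 1, 2, 2],
  !![2, 2, 4, 4; 0, 3, 2, 3; 0, 0, 2, 1; 0, 0, 0, 3],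
  !![3, 4, 4, 2; 0, 2, 4, 3; 0, 0, 3, 2; 0, 0, 0, 2],
  !![3, 2, 1, 4; 0, 2, 2, 2; 0, 0, 3, 1; 0, 0, 0, 2],
  !![0, 0, 0, 2; 0, 0, 3, 0; 0, 3, 0, 0; 2, 0, 0, 0],
  !![0, 0, 0, 3; 0, 0, 2, 2; 0, 2, 1, 3; 3, 1, 4, 3],
  !![1, 3, 3, 4; 3, 0, 1, 1; 4, 3, 0, 4; 3, 2, 1, 4],
  !![2, 4, 1, 2; 0, 3, 4, 2; 0, 0, 2, 2; 0, 0, 0, 3],
  !![3, 1, 4, 3; 2, 1, 2, 0; 3, 2, 0, 0; 3, 0, 0, 0],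
  !![1, 1, 2, 2; 4, 0, 2, 4; 1, 4, 0, 3; 1, 3, 3, 4],
  !![3, 0, 0, 0; 4, 2, 0, 0; 2, 2, 3, 0; 4, 1, 3, 2],
  !![4, 1, 3, 2; 0, 4, 4, 4; 0, 0, 4, 3; 0, 0, 0, 4],
  !![2, 0, 0, 0; 3, 3, 0, 0; 2, 4, 2, 0; 2, 1, 1, 3],
  !![4, 1, 3, 2; 3, 1, 0, 3; 1, 0, 2, 2; 3, 4, 4, 2],
  !![0, 0, 0, 4; 0, 0, 4, 4; 0, 1, 3, 4; 1, 2, 3, 1],
  !![2, 0, 0, 0; 4, 3, 0, 0; 3, 2, 2, 0; 4, 4, 3, 3],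
  !![0, 0, 0, 4; 0, 0, 4, 1; 0, 1, 2, 4; 1, 3, 3, 4],
  !![4, 3, 2, 4; 4, 2, 4, 0; 4, 1, 0, 0; 1, 0, 0, 0],
  !![4, 0, 0, 0; 3, 4, 0, 0; 1, 1, 4, 0; 3, 2, 1, 4],
  !![3, 0, 0, 0; 3, 2, 0, 0; 3, 4, 3, 0; 2, 4, 1, 2],
  !![2, 3, 4, 1; 0, 3, 3, 3; 0, 0, 2, 4; 0, 0, 0, 3],
  !![3, 3, 1, 1; 0, 2, 3, 2; 0, 0, 3, 4; 0, 0, 0, 2],
  !![3, 1, 4, 3; 0, 2, 1, 3; 0, 0, 3, 3; 0, 0, 0, 2],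
  !![2, 4, 1, 2; 2, 2, 0, 4; 2, 0, 1, 3; 3, 2, 1, 4],
  !![2, 0, 0, 0; 0, 3, 0, 0; 0, 0, 2, 0; 0, 0, 0, 3],
  !![2, 1, 1, 3; 0, 3, 1, 2; 0, 0, 2, 3; 0, 0, 0, 3],
  !![3, 0, 0, 0; 0, 2, 0, 0; 0, 0, 3, 0; 0, 0, 0, 2],
  !![1, 3, 3, 4; 4, 3, 4, 0; 1, 1, 0, 0; 1, 0, 0, 0],
  !![0, 0, 0, 4; 0, 0, 4, 0; 0, 1, 0, 0; 1, 0, 0, 0]]

def pAS : List ℕ := [1, 3, 5, 7, 9, 11, 12, 14, 16, 18, 19, 21, 23, 24, 0, 27, 29, 30, 32, 34, 35, 37, 33, 40, 42, 43, 44, 46, 47, 49, 51, 52, 54, 50, 57, 59, 60, 2, 56, 63, 65, 55, 68, 70, 71, 72, 74, 76, 77, 79, 75, 82, 83, 84, 4, 81, 87, 89, 80, 90, 91, 88, 28, 36, 31, 6, 86, 26, 97, 85, 100, 101, 103, 104, 106, 102, 95, 99, 41, 8, 107, 108, 110, 96, 38, 109, 45, 53, 48, 10,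 114, 39, 116, 117, 112, 62, 64, 13, 111, 61, 118, 67, 22, 66, 69, 58, 15, 119, 78, 73, 17, 92, 93, 94, 20, 98, 115, 113, 25, 105]

def pBS : List ℕ := [2, 4, 6, 8, 10, 9, 13, 15, 17, 16, 20, 22, 18, 25, 26, 28, 27, 31, 33, 29, 36, 38, 39, 41, 32, 0, 45, 44, 48, 50, 46, 53, 55, 56, 58, 49, 1, 61, 62, 64, 66, 67, 69, 54, 5, 73, 75, 71, 78, 80, 81, 43, 74, 3, 85, 86, 88, 40, 37, 42, 79, 92, 93, 87, 72, 94, 95, 96, 98, 99, 89, 102, 11, 105, 70, 107, 60, 101, 7, 68, 65, 109, 57, 59, 106, 111, 112, 108, 12, 113, 115, 110, 34, 104, 35, 82, 116, 30, 76, 83, 114, 91, 100, 84, 21, 14, 90, 97, 119, 19, 117, 51, 24, 52, 47, 103, 23, 77, 63, 118]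

set_option maxRecDepth 100000 in
theorem chkAS : lS.map (fun x => x * (gA : M5)) = pAS.map (fun i => lS.getD i 1) := by decide +kernel
set_option maxRecDepth 100000 in
theorem chkBS : lS.map (fun x => x * (gS : M5)) = pBS.map (fun i => lS.getD i 1) := by decide +kernel
set_option maxRecDepth 100000 in
theorem one_mem_lS : (1 : M5) ∈ lS := by decide +kernel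

theorem card_LS_le : Nat.card LS ≤ 120 := by
  have h := card_closure_le gA gS lS one_mem_lS pAS pBS chkAS chkBS
  have hl : lS.length = 120 := by decide +kernel
  rw [hl] at h; exact h

/-- the elements of `LP` -/
def lP : List M5 := [
  !![1, 0, 0, 0; 0, 1, 0, 0; 0, 0, 1, 0; 0, 0, 0, 1],
  !![1, 2, 3, 1; 0, 1, 3, 4; 0, 0, 1, 1; 0, 0, 0, 1],
  !![1, 0, 3, 1; 3, 1, 3, 4; 0, 0, 1, 0; 0, 0, 1, 1],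
  !![1, 4, 2, 3; 0, 1, 1, 1; 0, 0, 1, 2; 0, 0, 0, 1],
  !![2, 2, 3, 0; 3, 1, 0, 3; 0, 0, 2, 1; 0, 0, 1, 1],
  !![1, 2, 1, 0; 3, 2, 0, 4; 0, 0, 1, 1; 0, 0, 1, 2],
  !![1, 0, 2, 2; 1, 1, 4, 1; 0, 0, 1, 0; 0, 0, 2, 1],
  !![1, 1, 2, 2; 0, 1, 4, 1; 0, 0, 1, 3; 0, 0, 0, 1],
  !![3, 4, 0, 0; 3, 1, 0, 0; 0, 0, 3, 2; 0, 0, 1, 1],
  !![2, 1, 0, 3; 3, 2, 2, 0; 0, 0, 2, 3; 0, 0, 1, 2],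
  !![3, 2, 0, 0; 1, 1, 0, 0; 0, 0, 3, 1; 0, 0, 2, 1],
  !![1, 4, 0, 0; 3, 3, 0, 0; 0, 0, 1, 2; 0, 0, 1, 3],
  !![2, 2, 0, 4; 4, 2, 4, 0; 0, 0, 2, 1; 0, 0, 3, 2],
  !![1, 2, 0, 0; 1, 3, 0, 0; 0, 0, 1, 1; 0, 0, 2, 3],
  !![1, 0, 2, 3; 4, 1, 1, 1; 0, 0, 1, 0; 0, 0, 3, 1],
  !![1, 3, 3, 4; 0, 1, 2, 4; 0, 0, 1, 4; 0, 0, 0, 1],
  !![4, 1, 0, 2; 3, 1, 3, 0; 0, 0, 4, 3; 0, 0, 1, 1],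
  !![3, 0, 1, 4; 3, 2, 2, 2; 0, 0, 3, 0; 0, 0, 1, 2],
  !![0, 4, 1, 4; 1, 1, 2, 2; 0, 0, 0, 2; 0, 0, 2, 1],
  !![2, 0, 4, 4; 3, 3, 2, 3; 0, 0, 2, 0; 0, 0, 1, 3],
  !![0, 1, 2, 4; 4, 2, 2, 1; 0, 0, 0, 3; 0, 0, 3, 2],
  !![3, 3, 0, 1; 1, 3, 1, 0; 0, 0, 3, 4; 0, 0, 2, 3],
  !![4, 2, 0, 1; 4, 1, 1, 0; 0, 0, 4, 1; 0, 0, 3, 1],
  !![1, 1, 0, 2; 3, 4, 3, 0; 0, 0, 1, 3; 0, 0, 1, 4],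
  !![3, 4, 0, 2; 2, 3, 3, 0; 0, 0, 3, 2; 0, 0, 4, 3],
  !![2, 1, 2, 4; 4, 0, 2, 1; 0, 0, 2, 3; 0, 0, 3, 0],
  !![3, 2, 1, 4; 0, 2, 2, 2; 0, 0, 3, 1; 0, 0, 0, 2],
  !![1, 4, 4, 4; 1, 0, 2, 3; 0, 0, 1, 2; 0, 0, 2, 0],
  !![2, 2, 4, 4; 0, 3, 2, 3; 0, 0, 2, 1; 0, 0, 0, 3],
  !![1, 2, 0, 1; 4, 4, 1, 0; 0, 0, 1, 1; 0, 0, 3, 4],
  !![1, 0, 3, 4; 2, 1, 2, 4; 0, 0, 1, 0; 0, 0, 4, 1],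
  !![0, 3, 4, 2; 3, 1, 4, 3; 0, 0, 0, 4; 0, 0, 1, 1],
  !![4, 4, 0, 0; 3, 2, 0, 0; 0, 0, 4, 2; 0, 0, 1, 2],
  !![2, 1, 2, 0; 1, 1, 0, 2; 0, 0, 2, 3; 0, 0, 2, 1],
  !![3, 1, 0, 3; 3, 3, 2, 0; 0, 0, 3, 3; 0, 0, 1, 3],
  !![3, 0, 4, 2; 4, 2, 4, 3; 0, 0, 3, 0; 0, 0, 3, 2],
  !![0, 4, 3, 1; 1, 3, 3, 4; 0, 0, 0, 2; 0, 0, 2, 3],
  !![2, 4, 2, 0; 4, 1, 0, 2; 0, 0, 2, 2; 0, 0, 3, 1],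
  !![2, 4, 0, 0; 3, 4, 0, 0; 0, 0, 2, 2; 0, 0, 1, 4],
  !![2, 0, 4, 1; 2, 3, 3, 3; 0, 0, 2, 0; 0, 0, 4, 3],
  !![0, 1, 0, 0; 4, 0, 0, 0; 0, 0, 0, 3; 0, 0, 3, 0],
  !![3, 1, 4, 3; 0, 2, 1, 3; 0, 0, 3, 3; 0, 0, 0, 2],
  !![3, 4, 3, 1; 1, 0, 3, 4; 0, 0, 3, 2; 0, 0, 2, 0],
  !![2, 3, 4, 1; 0, 3, 3, 3; 0, 0, 2, 4; 0, 0, 0, 3],
  !![4, 0, 3, 3; 4, 4, 1, 4; 0, 0, 4, 0; 0, 0, 3, 4],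
  !![0, 2, 4, 3; 2, 1, 1, 3; 0, 0, 0, 1; 0, 0, 4, 1],
  !![1, 3, 1, 2; 3, 0, 4, 2; 0, 0, 1, 4; 0, 0, 1, 0],
  !![4, 1, 3, 2; 0, 4, 4, 4; 0, 0, 4, 3; 0, 0, 0, 4],
  !![3, 0, 1, 1; 2, 2, 3, 2; 0, 0, 3, 0; 0, 0, 4, 2],
  !![2, 0, 1, 2; 4, 3, 4, 2; 0, 0, 2, 0; 0, 0, 3, 3],
  !![3, 3, 1, 1; 0, 2, 3, 2; 0, 0, 3, 4; 0, 0, 0, 2],
  !![4, 2, 0, 0; 1, 2, 0, 0; 0, 0, 4, 1; 0, 0, 2, 2],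
  !![1, 1, 4, 0; 1, 2, 0, 1; 0, 0, 1, 3; 0, 0, 2, 2],
  !![2, 1, 1, 3; 0, 3, 1, 2; 0, 0, 2, 3; 0, 0, 0, 3],
  !![3, 2, 0, 4; 4, 3, 4, 0; 0, 0, 3, 1; 0, 0, 3, 3],
  !![1, 4, 4, 0; 4, 2, 0, 1; 0, 0, 1, 2; 0, 0, 3, 2],
  !![2, 2, 0, 0; 1, 4, 0, 0; 0, 0, 2, 1; 0, 0, 2, 4],
  !![1, 2, 1, 3; 2, 0, 1, 2; 0, 0, 1, 1; 0, 0, 4, 0],
  !![0, 3, 3, 3; 3, 2, 1, 4; 0, 0, 0, 4; 0, 0, 1, 2],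
  !![4, 3, 0, 4; 1, 1, 4, 0; 0, 0, 4, 4; 0, 0, 2, 1],
  !![4, 2, 4, 0; 3, 3, 0, 1; 0, 0, 4, 1; 0, 0, 1, 3],
  !![2, 0, 1, 3; 1, 3, 1, 2; 0, 0, 2, 0; 0, 0, 2, 3],
  !![0, 1, 1, 1; 4, 1, 3, 2; 0, 0, 0, 3; 0, 0, 3, 1],
  !![3, 2, 2, 0; 3, 4, 0, 2; 0, 0, 3, 1; 0, 0, 1, 4],
  !![1, 1, 0, 0; 2, 3, 0, 0; 0, 0, 1, 3; 0, 0, 4, 3],
  !![3, 1, 3, 4; 4, 0, 2, 4; 0, 0, 3, 3; 0, 0, 3, 0],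
  !![3, 0, 0, 0; 0, 2, 0, 0; 0, 0, 3, 0; 0, 0, 0, 2],
  !![0, 4, 0, 0; 1, 0, 0, 0; 0, 0, 0, 2; 0, 0, 2, 0],
  !![2, 4, 1, 2; 0, 3, 4, 2; 0, 0, 2, 2; 0, 0, 0, 3],
  !![2, 3, 0, 0; 4, 4, 0, 0; 0, 0, 2, 4; 0, 0, 3, 4],
  !![4, 4, 0, 3; 2, 1, 2, 0; 0, 0, 4, 2; 0, 0, 4, 1],
  !![2, 3, 3, 3; 3, 0, 1, 4; 0, 0, 2, 4; 0, 0, 1, 0],
  !![4, 4, 3, 3; 0, 4, 1, 4; 0, 0, 4, 2; 0, 0, 0, 4],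
  !![2, 4, 0, 2; 2, 2, 3, 0; 0, 0, 2, 2; 0, 0, 4, 2],
  !![0, 1, 3, 4; 4, 3, 2, 4; 0, 0, 0, 3; 0, 0, 3, 3],
  !![3, 0, 4, 3; 1, 2, 1, 3; 0, 0, 3, 0; 0, 0, 2, 2],
  !![1, 3, 0, 0; 4, 3, 0, 0; 0, 0, 1, 4; 0, 0, 3, 3],
  !![4, 3, 0, 0; 4, 2, 0, 0; 0, 0, 4, 4; 0, 0, 3, 2],
  !![4, 0, 3, 2; 1, 4, 4, 4; 0, 0, 4, 0; 0, 0, 2, 4],
  !![0, 2, 0, 0; 2, 0, 0, 0; 0, 0, 0, 1; 0, 0, 4, 0],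
  !![0, 3, 0, 0; 3, 0, 0, 0; 0, 0, 0, 4; 0, 0, 1, 0],
  !![2, 1, 0, 0; 2, 4, 0, 0; 0, 0, 2, 3; 0, 0, 4, 4],
  !![3, 1, 0, 0; 2, 1, 0, 0; 0, 0, 3, 3; 0, 0, 4, 1],
  !![3, 4, 4, 2; 0, 2, 4, 3; 0, 0, 3, 2; 0, 0, 0, 2],
  !![2, 3, 0, 1; 1, 2, 1, 0; 0, 0, 2, 4; 0, 0, 2, 2],
  !![0, 2, 3, 2; 2, 2, 4, 4; 0, 0, 0, 1; 0, 0, 4, 2],
  !![1, 3, 0, 4; 1, 4, 4, 0; 0, 0, 1, 4; 0, 0, 2, 4],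
  !![4, 1, 0, 0; 2, 2, 0, 0; 0, 0, 4, 3; 0, 0, 4, 2],
  !![2, 0, 0, 0; 0, 3, 0, 0; 0, 0, 2, 0; 0, 0, 0, 3],
  !![3, 3, 0, 0; 4, 1, 0, 0; 0, 0, 3, 4; 0, 0, 3, 1],
  !![1, 1, 4, 1; 4, 0, 3, 3; 0, 0, 1, 3; 0, 0, 3, 0],
  !![1, 4, 0, 3; 2, 4, 2, 0; 0, 0, 1, 2; 0, 0, 4, 4],
  !![2, 2, 3, 2; 2, 0, 4, 4; 0, 0, 2, 1; 0, 0, 4, 0],
  !![0, 3, 2, 3; 3, 3, 1, 1; 0, 0, 0, 4; 0, 0, 1, 3],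
  !![4, 1, 1, 0; 1, 3, 0, 4; 0, 0, 4, 3; 0, 0, 2, 3],
  !![4, 0, 2, 1; 3, 4, 3, 1; 0, 0, 4, 0; 0, 0, 1, 4],
  !![0, 2, 2, 2; 2, 3, 4, 1; 0, 0, 0, 1; 0, 0, 4, 3],
  !![2, 4, 2, 1; 1, 0, 3, 1; 0, 0, 2, 2; 0, 0, 2, 0],
  !![0, 1, 4, 1; 4, 4, 3, 3; 0, 0, 0, 3; 0, 0, 3, 4],
  !![3, 3, 2, 3; 3, 0, 1, 1; 0, 0, 3, 4; 0, 0, 1, 0],
  !![4, 2, 2, 1; 0, 4, 3, 1; 0, 0, 4, 1; 0, 0, 0, 4],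
  !![1, 3, 1, 0; 2, 2, 0, 4; 0, 0, 1, 4; 0, 0, 4, 2],
  !![0, 4, 2, 1; 1, 2, 3, 1; 0, 0, 0, 2; 0, 0, 2, 2],
  !![4, 4, 1, 0; 4, 3, 0, 4; 0, 0, 4, 2; 0, 0, 3, 3],
  !![4, 2, 4, 3; 2, 0, 1, 3; 0, 0, 4, 1; 0, 0, 4, 0],
  !![2, 3, 3, 0; 2, 1, 0, 3; 0, 0, 2, 4; 0, 0, 4, 1],
  !![3, 1, 3, 0; 1, 4, 0, 3; 0, 0, 3, 3; 0, 0, 2, 4],
  !![4, 1, 1, 1; 4, 0, 3, 2; 0, 0, 4, 3; 0, 0, 3, 0],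
  !![0, 2, 1, 3; 2, 4, 1, 2; 0, 0, 0, 1; 0, 0, 4, 4],
  !![4, 3, 4, 2; 3, 0, 4, 3; 0, 0, 4, 4; 0, 0, 1, 0],
  !![3, 2, 2, 2; 2, 0, 4, 1; 0, 0, 3, 1; 0, 0, 4, 0],
  !![0, 3, 1, 2; 3, 4, 4, 2; 0, 0, 0, 4; 0, 0, 1, 4],
  !![3, 4, 3, 0; 4, 4, 0, 3; 0, 0, 3, 2; 0, 0, 3, 4],
  !![4, 3, 4, 0; 2, 3, 0, 1; 0, 0, 4, 4; 0, 0, 4, 3],
  !![4, 4, 1, 4; 1, 0, 2, 2; 0, 0, 4, 2; 0, 0, 2, 0],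
  !![4, 0, 0, 0; 0, 4, 0, 0; 0, 0, 4, 0; 0, 0, 0, 4],
  !![0, 4, 4, 4; 1, 4, 2, 3; 0, 0, 0, 2; 0, 0, 2, 4],
  !![4, 0, 2, 4; 2, 4, 2, 1; 0, 0, 4, 0; 0, 0, 4, 4],
  !![3, 3, 2, 0; 2, 4, 0, 2; 0, 0, 3, 4; 0, 0, 4, 4],
  !![4, 3, 2, 4; 0, 4, 2, 1; 0, 0, 4, 4; 0, 0, 0, 4]]

def pAP : List ℕ := [1, 3, 5, 7, 9, 11, 13, 15, 17, 19, 21, 23, 25, 27, 29, 0, 32, 34, 36, 38, 40, 42, 44, 46, 48, 49, 50, 52, 53, 55, 57, 58, 60, 61, 63, 65, 67, 69, 71, 73, 74, 26, 75, 28, 77, 79, 2, 72, 82, 37, 83, 78, 86, 88, 89, 90, 33, 91, 93, 94, 95, 97, 98, 99, 101, 54, 41, 102, 43, 12, 104, 4, 100, 105, 62, 106, 14, 107, 59, 108, 31, 39, 110, 66, 56, 45, 6, 70, 68, 112, 76, 64, 81, 111, 114, 109, 85, 84, 20, 8, 115, 30,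 116, 22, 117, 92, 10, 103, 96, 16, 118, 80, 35, 87, 51, 119, 18, 113, 24, 47]

def pBP : List ℕ := [2, 4, 6, 8, 10, 12, 14, 16, 18, 20, 22, 24, 26, 28, 30, 31, 33, 35, 37, 39, 41, 43, 45, 47, 36, 40, 51, 42, 54, 56, 0, 59, 55, 62, 64, 66, 68, 70, 72, 61, 65, 52, 67, 76, 78, 1, 80, 81, 17, 19, 84, 85, 87, 74, 60, 83, 63, 92, 77, 89, 96, 88, 82, 100, 94, 90, 75, 97, 103, 86, 3, 46, 91, 32, 34, 48, 93, 50, 95, 57, 109, 98, 7, 102, 101, 5, 111, 9, 49, 105, 107, 112, 110, 113, 53, 115, 13, 114, 106, 71, 108, 58, 73, 11, 79, 15, 23, 25, 29, 99, 104, 119, 116, 21, 27, 117, 38, 44, 69, 118]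

set_option maxRecDepth 100000 in
theorem chkAP : lP.map (fun x => x * (gA : M5)) = pAP.map (fun i => lP.getD i 1) := by decide +kernel
set_option maxRecDepth 100000 in
theorem chkBP : lP.map (fun x => x * (gP : M5)) = pBP.map (fun i => lP.getD i 1) := by decide +kernel
set_option maxRecDepth 100000 in
theorem one_mem_lP : (1 : M5) ∈ lP := by decide +kernel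

theorem card_LP_le : Nat.card LP ≤ 120 := by
  have h := card_closure_le gA gP lP one_mem_lP pAP pBP chkAP chkBP
  have hl : lP.length = 120 := by decide +kernel
  rw [hl] at h; exact h

/-- the elements of `LR` -/
def lR : List M5 := [
  !![1, 0, 0, 0; 0, 1, 0, 0; 0, 0, 1, 0; 0, 0, 0, 1],
  !![1, 2, 3, 1; 0, 1, 3, 4; 0, 0, 1, 1; 0, 0, 0, 1],
  !![1, 1, 0, 0; 0, 1, 0, 0; 2, 4, 1, 3; 3, 4, 0, 1],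
  !![1, 4, 2, 3; 0, 1, 1, 1; 0, 0, 1, 2; 0, 0, 0, 1],
  !![0, 4, 3, 0; 3, 4, 3, 3; 0, 3, 1, 4; 3, 4, 0, 1],
  !![1, 3, 1, 0; 0, 1, 3, 4; 2, 3, 4, 2; 3, 0, 1, 0],
  !![1, 2, 0, 0; 0, 1, 0, 0; 3, 2, 1, 1; 1, 1, 0, 1],
  !![1, 1, 2, 2; 0, 1, 4, 1; 0, 0, 1, 3; 0, 0, 0, 1],
  !![4, 0, 2, 4; 0, 4, 1, 4; 3, 2, 1, 0; 3, 4, 0, 1],
  !![0, 4, 0, 4; 3, 0, 4, 0; 0, 3, 0, 2; 3, 0, 1, 0],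
  !![1, 1, 3, 4; 3, 1, 3, 2; 4, 3, 1, 2; 1, 1, 0, 1],
  !![1, 0, 3, 4; 0, 1, 1, 1; 2, 2, 4, 0; 3, 1, 0, 4],
  !![3, 3, 1, 3; 3, 4, 3, 3; 1, 4, 4, 4; 0, 2, 1, 3],
  !![1, 4, 4, 4; 0, 1, 3, 4; 3, 3, 1, 3; 1, 3, 1, 1],
  !![1, 3, 0, 0; 0, 1, 0, 0; 3, 3, 1, 4; 4, 1, 0, 1],
  !![1, 3, 3, 4; 0, 1, 2, 4; 0, 0, 1, 4; 0, 0, 0, 1],
  !![1, 3, 2, 3; 1, 1, 4, 3; 1, 1, 1, 1; 3, 4, 0, 1],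
  !![4, 3, 4, 0; 0, 4, 3, 1; 3, 3, 1, 2; 3, 0, 1, 0],
  !![0, 3, 2, 0; 4, 4, 1, 2; 0, 4, 1, 3; 1, 1, 0, 1],
  !![0, 4, 2, 0; 3, 1, 3, 2; 0, 3, 4, 4; 3, 1, 0, 4],
  !![2, 0, 0, 4; 1, 4, 4, 2; 1, 1, 0, 2; 0, 2, 1, 3],
  !![1, 3, 4, 2; 3, 2, 0, 2; 4, 1, 2, 4; 1, 3, 1, 1],
  !![4, 0, 3, 3; 0, 4, 3, 1; 2, 4, 1, 0; 4, 1, 0, 1],
  !![1, 2, 1, 3; 0, 1, 4, 1; 2, 1, 1, 4; 3, 2, 2, 1],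
  !![4, 4, 3, 3; 0, 4, 1, 4; 0, 0, 4, 2; 0, 0, 0, 4],
  !![3, 4, 4, 4; 3, 0, 4, 0; 1, 1, 4, 0; 0, 2, 2, 2],
  !![4, 2, 1, 1; 3, 1, 3, 2; 1, 2, 4, 1; 1, 3, 1, 1],
  !![1, 1, 4, 0; 0, 1, 1, 1; 3, 4, 4, 4; 1, 0, 3, 0],
  !![1, 2, 4, 1; 3, 4, 3, 3; 4, 2, 1, 1; 1, 2, 1, 4],
  !![1, 0, 2, 3; 0, 1, 3, 4; 3, 4, 4, 0; 4, 4, 0, 4],
  !![1, 4, 0, 0; 0, 1, 0, 0; 2, 1, 1, 2; 2, 4, 0, 1],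
  !![4, 2, 3, 3; 1, 0, 2, 0; 4, 0, 1, 2; 3, 4, 0, 1],
  !![1, 0, 4, 3; 1, 3, 0, 2; 1, 3, 2, 2; 3, 0, 1, 0],
  !![4, 4, 2, 4; 3, 0, 4, 0; 1, 0, 1, 4; 1, 1, 0, 1],
  !![4, 1, 0, 0; 0, 4, 0, 0; 3, 4, 4, 3; 3, 1, 0, 4],
  !![2, 3, 4, 2; 4, 0, 3, 0; 1, 3, 1, 0; 0, 2, 1, 3],
  !![0, 3, 1, 4; 4, 2, 0, 3; 0, 4, 3, 0; 1, 3, 1, 1],
  !![4, 1, 2, 1; 2, 0, 1, 0; 1, 0, 1, 1; 4, 1, 0, 1],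
  !![0, 4, 4, 3; 3, 2, 0, 2; 0, 3, 3, 0; 3, 2, 2, 1],
  !![4, 2, 2, 1; 0, 4, 3, 1; 0, 0, 4, 1; 0, 0, 0, 4],
  !![2, 4, 1, 1; 1, 1, 4, 3; 1, 3, 1, 2; 0, 2, 2, 2],
  !![4, 3, 0, 4; 0, 4, 4, 4; 2, 0, 0, 2; 1, 3, 1, 1],
  !![1, 0, 1, 4; 3, 3, 0, 3; 4, 4, 2, 4; 1, 0, 3, 0],
  !![0, 3, 4, 4; 4, 3, 0, 2; 0, 4, 2, 0; 1, 2, 1, 4],
  !![4, 3, 0, 0; 0, 4, 0, 0; 2, 3, 4, 4; 4, 4, 0, 4],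
  !![4, 3, 3, 2; 4, 0, 3, 0; 4, 0, 1, 3; 2, 4, 0, 1],
  !![1, 4, 0, 3; 0, 1, 2, 4; 2, 0, 0, 1; 3, 3, 2, 4],
  !![4, 2, 3, 2; 4, 4, 1, 2; 4, 4, 4, 4; 2, 1, 0, 4],
  !![3, 0, 0, 2; 3, 1, 3, 2; 1, 3, 0, 4; 0, 2, 3, 2],
  !![3, 4, 4, 1; 1, 4, 4, 2; 4, 3, 4, 2; 0, 3, 2, 3],
  !![4, 0, 4, 4; 3, 2, 0, 2; 1, 4, 3, 4; 1, 0, 3, 0],
  !![4, 4, 1, 4; 0, 4, 3, 1; 2, 3, 4, 3; 1, 2, 1, 4],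
  !![1, 3, 0, 4; 0, 1, 4, 1; 3, 0, 0, 2; 1, 2, 1, 4],
  !![4, 3, 4, 2; 0, 4, 1, 4; 3, 4, 4, 1; 2, 3, 3, 4],
  !![1, 4, 3, 4; 3, 0, 4, 0; 4, 0, 4, 4; 1, 4, 0, 4],
  !![2, 3, 4, 3; 3, 1, 3, 2; 4, 4, 1, 4; 0, 3, 1, 2],
  !![1, 2, 0, 1; 0, 1, 1, 1; 3, 0, 0, 3; 4, 2, 4, 4],
  !![4, 1, 2, 4; 3, 4, 3, 3; 1, 3, 4, 2; 1, 4, 0, 4],
  !![1, 1, 0, 2; 0, 1, 3, 4; 2, 0, 0, 4; 2, 3, 3, 4],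
  !![4, 0, 1, 3; 1, 2, 0, 3; 4, 3, 3, 2; 3, 0, 1, 0],
  !![4, 0, 3, 2; 0, 4, 2, 1; 2, 1, 1, 0; 1, 1, 0, 1],
  !![1, 2, 2, 3; 1, 0, 2, 0; 1, 0, 4, 2; 3, 1, 0, 4],
  !![3, 4, 4, 0; 2, 2, 0, 2; 1, 0, 2, 3; 0, 2, 1, 3],
  !![0, 2, 2, 0; 1, 4, 4, 2; 0, 1, 1, 2; 4, 1, 0, 1],
  !![4, 4, 0, 3; 0, 4, 2, 1; 3, 0, 0, 1; 3, 2, 2, 1],
  !![4, 0, 0, 0; 0, 4, 0, 0; 0, 0, 4, 0; 0, 0, 0, 4],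
  !![2, 2, 4, 0; 4, 3, 0, 2; 1, 0, 3, 4; 0, 2, 2, 2],
  !![0, 3, 0, 2; 4, 0, 3, 0; 0, 4, 0, 4; 1, 0, 3, 0],
  !![4, 3, 1, 2; 3, 3, 0, 3; 1, 1, 3, 4; 1, 2, 1, 4],
  !![4, 4, 2, 1; 2, 4, 2, 3; 1, 2, 4, 3; 4, 4, 0, 4],
  !![1, 2, 2, 2; 4, 1, 1, 3; 1, 4, 1, 4; 2, 4, 0, 1],
  !![0, 4, 1, 3; 3, 3, 0, 3; 0, 3, 2, 0; 3, 3, 2, 4],
  !![1, 3, 2, 2; 4, 0, 3, 0; 1, 0, 4, 3; 2, 1, 0, 4],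
  !![2, 3, 4, 0; 1, 3, 0, 2; 1, 0, 3, 1; 0, 2, 3, 2],
  !![2, 4, 1, 4; 3, 0, 4, 0; 4, 1, 1, 0; 0, 3, 2, 3],
  !![4, 1, 1, 0; 0, 4, 1, 4; 2, 4, 1, 4; 1, 0, 3, 0],
  !![0, 1, 1, 2; 2, 3, 0, 3; 0, 2, 2, 0; 2, 3, 3, 4],
  !![0, 3, 3, 0; 4, 1, 1, 3; 0, 4, 4, 3; 1, 4, 0, 4],
  !![0, 0, 4, 1; 0, 0, 0, 2; 4, 2, 2, 1; 0, 3, 1, 2],
  !![4, 1, 1, 1; 0, 4, 2, 1; 2, 2, 4, 2; 4, 2, 4, 4],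
  !![4, 2, 0, 0; 0, 4, 0, 0; 2, 2, 4, 1; 1, 4, 0, 4],
  !![4, 1, 4, 1; 4, 3, 0, 2; 4, 3, 3, 3; 2, 3, 3, 4],
  !![0, 2, 0, 3; 1, 0, 2, 0; 0, 1, 0, 1; 4, 0, 2, 0],
  !![4, 0, 1, 2; 4, 2, 0, 3; 4, 2, 3, 3; 2, 0, 4, 0],
  !![1, 1, 3, 1; 2, 0, 1, 0; 4, 0, 4, 1; 4, 4, 0, 4],
  !![3, 1, 4, 0; 3, 2, 0, 2; 1, 0, 2, 2; 0, 2, 4, 3],
  !![4, 1, 0, 2; 0, 4, 3, 1; 3, 0, 0, 4; 2, 2, 3, 1],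
  !![3, 0, 0, 4; 1, 1, 4, 3; 4, 1, 0, 2; 0, 3, 1, 2],
  !![4, 2, 4, 3; 0, 4, 4, 4; 3, 1, 4, 4; 3, 3, 2, 4],
  !![3, 3, 1, 2; 4, 0, 3, 0; 4, 3, 4, 0; 0, 3, 1, 2],
  !![1, 0, 2, 2; 0, 1, 2, 4; 3, 1, 4, 0; 1, 4, 0, 4],
  !![3, 1, 4, 4; 4, 4, 1, 2; 4, 2, 4, 3; 0, 3, 3, 3],
  !![4, 3, 3, 3; 1, 4, 4, 2; 4, 1, 4, 1; 3, 1, 0, 4],
  !![2, 2, 4, 1; 3, 2, 0, 2; 4, 2, 0, 0; 0, 3, 0, 0],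
  !![1, 4, 4, 0; 0, 1, 4, 1; 3, 1, 4, 1; 4, 0, 2, 0],
  !![4, 2, 0, 1; 0, 4, 1, 4; 2, 0, 0, 3; 4, 3, 4, 1],
  !![1, 3, 1, 2; 0, 1, 1, 1; 2, 4, 1, 1; 2, 2, 3, 1],
  !![2, 0, 0, 2; 3, 4, 3, 3; 4, 3, 0, 4; 0, 3, 3, 3],
  !![0, 0, 1, 1; 0, 0, 0, 3; 1, 2, 3, 1; 0, 2, 1, 3],
  !![1, 4, 3, 1; 2, 1, 2, 2; 4, 2, 1, 3; 4, 1, 0, 1],
  !![1, 4, 1, 4; 1, 2, 0, 3; 1, 2, 2, 2; 3, 2, 2, 1],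
  !![4, 3, 2, 4; 0, 4, 2, 1; 0, 0, 4, 4; 0, 0, 0, 4],
  !![3, 0, 0, 3; 2, 1, 2, 2; 1, 2, 0, 1; 0, 2, 2, 2],
  !![0, 2, 3, 0; 1, 1, 4, 3; 0, 1, 4, 2; 4, 4, 0, 4],
  !![4, 0, 2, 1; 0, 4, 4, 4; 3, 3, 1, 0; 2, 4, 0, 1],
  !![4, 4, 0, 0; 0, 4, 0, 0; 3, 1, 4, 2; 2, 1, 0, 4],
  !![2, 1, 1, 4; 4, 1, 1, 3; 1, 2, 1, 3; 0, 2, 3, 2],
  !![0, 0, 4, 2; 0, 0, 0, 2; 4, 4, 3, 3; 0, 3, 2, 3],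
  !![2, 4, 1, 0; 2, 3, 0, 3; 4, 0, 3, 3; 0, 3, 1, 2],
  !![4, 2, 1, 3; 2, 3, 0, 3; 1, 4, 3, 1; 4, 2, 4, 4],
  !![1, 4, 1, 3; 4, 4, 1, 2; 1, 1, 1, 2; 2, 3, 3, 4],
  !![1, 0, 1, 1; 2, 3, 0, 3; 4, 1, 2, 1; 4, 0, 2, 0],
  !![1, 0, 4, 2; 4, 3, 0, 2; 1, 2, 2, 3; 2, 0, 4, 0],
  !![2, 2, 4, 3; 1, 0, 2, 0; 1, 2, 1, 0; 0, 2, 4, 3],
  !![0, 1, 4, 2; 2, 2, 0, 2; 0, 2, 3, 0; 2, 2, 3, 1],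
  !![1, 1, 1, 2; 1, 4, 4, 2; 1, 4, 1, 3; 3, 3, 2, 4],
  !![3, 3, 1, 0; 1, 2, 0, 3; 4, 0, 2, 1; 0, 3, 3, 3],
  !![0, 0, 4, 0; 0, 0, 0, 2; 4, 0, 0, 0; 0, 3, 0, 0],
  !![4, 4, 1, 0; 0, 4, 4, 4; 2, 1, 1, 1; 4, 0, 2, 0],
  !![4, 3, 1, 4; 2, 1, 2, 2; 1, 3, 4, 4; 4, 3, 4, 1],
  !![4, 4, 4, 3; 4, 1, 1, 3; 4, 1, 4, 2; 2, 2, 3, 1],
  !![0, 0, 4, 3; 0, 0, 0, 2; 4, 1, 3, 2; 0, 3, 3, 3],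
  !![0, 2, 1, 1; 1, 2, 0, 3; 0, 1, 3, 0; 4, 3, 4, 1],
  !![2, 1, 1, 0; 3, 3, 0, 3; 4, 0, 3, 2; 0, 3, 4, 2],
  !![1, 3, 4, 4; 2, 4, 2, 3; 4, 3, 1, 4; 4, 2, 4, 4],
  !![3, 2, 1, 1; 3, 3, 0, 3; 1, 2, 0, 0; 0, 2, 0, 0],
  !![3, 1, 4, 2; 1, 3, 0, 2; 4, 4, 0, 0; 0, 3, 0, 0],
  !![3, 4, 4, 3; 4, 3, 0, 2; 4, 1, 0, 0; 0, 3, 0, 0],
  !![3, 2, 1, 0; 4, 2, 0, 3; 4, 0, 2, 4; 0, 3, 2, 3],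
  !![3, 1, 4, 1; 2, 0, 1, 0; 1, 4, 4, 0; 0, 2, 3, 2],
  !![4, 1, 4, 2; 1, 1, 4, 3; 4, 4, 4, 3; 3, 2, 2, 1],
  !![4, 1, 3, 2; 0, 4, 4, 4; 0, 0, 4, 3; 0, 0, 0, 4],
  !![1, 1, 4, 1; 0, 1, 2, 4; 3, 2, 1, 2; 4, 3, 4, 1],
  !![2, 0, 0, 1; 4, 4, 1, 2; 1, 4, 0, 3; 0, 2, 4, 3],
  !![1, 0, 3, 1; 0, 1, 4, 1; 2, 3, 4, 0; 2, 1, 0, 4],
  !![0, 0, 1, 2; 0, 0, 0, 3; 1, 4, 2, 3; 0, 2, 2, 2],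
  !![0, 1, 3, 0; 2, 4, 2, 3; 0, 2, 1, 1; 2, 4, 0, 1],
  !![0, 1, 2, 0; 2, 1, 2, 2; 0, 2, 4, 1; 2, 1, 0, 4],
  !![2, 0, 0, 3; 2, 4, 2, 3; 4, 2, 0, 1; 0, 3, 2, 3],
  !![0, 2, 4, 1; 1, 3, 0, 2; 0, 1, 2, 0; 4, 2, 4, 4],
  !![4, 2, 4, 0; 0, 4, 2, 1; 3, 2, 1, 3; 2, 0, 4, 0],
  !![4, 4, 4, 4; 1, 3, 0, 2; 4, 2, 3, 2; 3, 3, 2, 4],
  !![2, 3, 4, 4; 2, 2, 0, 2; 4, 3, 0, 0; 0, 3, 0, 0],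
  !![4, 0, 4, 1; 2, 2, 0, 2; 1, 1, 3, 1; 4, 0, 2, 0],
  !![1, 1, 1, 1; 4, 2, 0, 3; 1, 3, 2, 3; 2, 2, 3, 1],
  !![2, 1, 1, 1; 2, 0, 1, 0; 4, 4, 1, 0; 0, 3, 3, 3],
  !![1, 2, 4, 3; 2, 2, 0, 2; 4, 4, 2, 1; 4, 3, 4, 1],
  !![0, 0, 4, 4; 0, 0, 0, 2; 4, 3, 2, 4; 0, 3, 4, 2],
  !![2, 1, 1, 2; 1, 2, 0, 3; 1, 4, 0, 0; 0, 2, 0, 0],
  !![0, 0, 1, 3; 0, 0, 0, 3; 1, 1, 2, 2; 0, 2, 3, 2],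
  !![3, 2, 1, 2; 2, 4, 2, 3; 1, 1, 4, 1; 0, 2, 4, 3],
  !![0, 0, 1, 4; 0, 0, 0, 3; 1, 3, 3, 4; 0, 2, 4, 3],
  !![3, 3, 1, 4; 2, 3, 0, 3; 1, 3, 0, 0; 0, 2, 0, 0],
  !![3, 2, 1, 3; 1, 0, 2, 0; 4, 2, 4, 0; 0, 3, 4, 2],
  !![3, 0, 0, 1; 4, 1, 1, 3; 4, 4, 0, 3; 0, 3, 4, 2],
  !![2, 4, 1, 3; 4, 2, 0, 3; 1, 1, 0, 0; 0, 2, 0, 0],
  !![0, 1, 0, 1; 2, 0, 1, 0; 0, 2, 0, 3; 2, 0, 4, 0],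
  !![1, 2, 1, 0; 0, 1, 2, 4; 2, 2, 4, 3; 2, 0, 4, 0],
  !![2, 2, 4, 2; 2, 1, 2, 2; 4, 1, 1, 1; 0, 3, 4, 2],
  !![0, 0, 1, 0; 0, 0, 0, 3; 1, 0, 0, 0; 0, 2, 0, 0]]

def pAR : List ℕ := [1, 3, 5, 7, 9, 11, 13, 15, 17, 19, 21, 23, 25, 27, 29, 0, 32, 34, 36, 38, 40, 42, 44, 46, 39, 48, 50, 52, 54, 56, 58, 59, 61, 26, 64, 66, 67, 69, 71, 65, 73, 75, 28, 77, 79, 81, 2, 83, 85, 87, 68, 80, 90, 86, 10, 93, 94, 33, 96, 92, 41, 100, 102, 103, 88, 101, 106, 43, 57, 109, 110, 4, 112, 113, 55, 51, 114, 18, 117, 118, 60, 120, 122, 45, 124, 125, 105, 126, 8, 127, 6, 128, 130, 123, 132, 22, 134, 74, 135, 84, 115, 131, 129, 139, 53, 140, 133, 78, 142, 143, 144, 146, 70, 148, 137, 16, 49, 147, 95, 37, 47, 107, 63,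 97, 111, 12, 153, 154, 89, 150, 141, 24, 14, 155, 157, 149, 76, 156, 108, 82, 104, 31, 158, 119, 72, 138, 99, 121, 20, 151, 152, 159, 62, 116, 91, 35, 136, 30, 145, 98]

def pBR : List ℕ := [2, 4, 6, 8, 10, 12, 14, 16, 18, 20, 22, 24, 26, 28, 30, 31, 33, 35, 37, 39, 41, 43, 45, 40, 47, 49, 51, 53, 55, 57, 0, 60, 62, 63, 65, 13, 68, 70, 66, 72, 74, 52, 76, 78, 80, 1, 82, 84, 86, 88, 81, 89, 87, 91, 92, 17, 95, 19, 97, 98, 99, 101, 21, 104, 102, 105, 107, 58, 108, 90, 3, 111, 29, 114, 115, 110, 116, 11, 32, 119, 34, 121, 64, 123, 77, 112, 67, 9, 94, 5, 61, 129, 131, 127, 130, 133, 75, 48, 36, 136, 135, 137, 138, 54, 7, 44, 96, 141, 59, 122, 145, 100, 147, 140, 50, 118, 149, 126, 23, 150, 27, 73,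 151, 109, 132, 152, 142, 117, 71, 120, 25, 134, 113, 156, 103, 128, 15, 69, 46, 146, 158, 143, 93, 38, 42, 106, 85, 139, 159, 144, 157, 83, 148, 79, 56, 125, 154, 153, 124, 155]

set_option maxRecDepth 100000 in
theorem chkAR : lR.map (fun x => x * (gA : M5)) = pAR.map (fun i => lR.getD i 1) := by decide +kernel
set_option maxRecDepth 100000 in
theorem chkBR : lR.map (fun x => x * (gR : M5)) = pBR.map (fun i => lR.getD i 1) := by decide +kernel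
set_option maxRecDepth 100000 in
theorem one_mem_lR : (1 : M5) ∈ lR := by decide +kernel

theorem card_LR_le : Nat.card LR ≤ 160 := by
  have h := card_closure_le gA gR lR one_mem_lR pAR pBR chkAR chkBR
  have hl : lR.length = 160 := by decide +kernel
  rw [hl] at h; exact h

end Cfsg.Agent.H309.Q5
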